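import Groth.Agent.KSix.K242.ExactKit
import Groth.Agent.PerfC.DTens
import Groth.Agent.Dcoh.DerPull
import Groth.Agent.Dcoh.DerSch
import Groth.Agent.QCohCat.K658.Abel

/-!
# The derived functors `Lf^*`, `- ⊗ᴸ F`, `Rf_*` are triangulated; exactness of `M ↦ H^p(Φ M)` on `QCoh(Y)`
-/

set_option autoImplicit false

universe u

open CategoryTheory CategoryTheory.Limits AlgebraicGeometry
open Groth.Agent.PerfC.IsoLocus

attribute [local instance] HasDerivedCategory.standard

namespace K242.QCohKit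

variable {X Y : Scheme.{u}}

lemma isTriang_Rpush (f : X ⟶ Y) [DCoh.HasRpush f] : IsTriang (DCoh.Rpush f) :=
  ⟨Groth.Agent.Dcoh.DerSch.rpushCommShift f, Groth.Agent.Dcoh.DerSch.rpush_isTriangulated f⟩

lemma isTriang_Lpull (f : X ⟶ Y) [DCoh.HasLpull f] : IsTriang (DCoh.Lpull f) :=
  ⟨Groth.Agent.Dcoh.DerPull.lpullCommShift f, Groth.Agent.Dcoh.DerPull.lpull_isTriangulated f⟩

lemma isTriang_LTensorCx (F : CochainComplex X.Modules ℤ) [DCoh.HasLTensorCx F] :
    IsTriang (DCoh.LTensorCx F) := Groth.Agent.PerfC.DTens.isTriang_LTensorCx F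

instance additive_ι : (QCohCat.isQCoh X).ι.Additive := inferInstance

lemma isTriang_TT (f : X ⟶ Y) (F : CochainComplex X.Modules ℤ)
    [DCoh.HasLpull f] [DCoh.HasLTensorCx F] [DCoh.HasRpush f] :
    IsTriang (DCoh.Lpull f ⋙ DCoh.LTensorCx F ⋙ DCoh.Rpush f) :=
  (isTriang_Lpull f).comp ((isTriang_LTensorCx F).comp (isTriang_Rpush f))

end K242.QCohKit
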