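import Groth.Agent.ModSite.K294.KFlat2
import Groth.Agent.PerfC.TensFlip
import Groth.Agent.PerfC.DBifBi
import Groth.Agent.PerfC.ExtNat

/-!
# The derived tensor product of modules on a small ringed site

* `bifData O : BifData (tensorCx O) IsKFlat`;
* `hasLTensorCx E`: the derived functor `- ⊗ᴸ E` exists for every complex `E`;
* `LTS O : D ⥤ D ⥤ D`, `LTScx E : (LTS O).flip.obj (Q E) ≅ LTensorCx E`;
* `κS K E : K ⊗ᴸ E ⟶ Q (K ⊗ E)` iso if `K` or `E` is K-flat;
* `isTriang_LTensorCx`.
-/

set_option autoImplicit false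

universe u

open CategoryTheory CategoryTheory.Limits

attribute [local instance] HasDerivedCategory.standard

namespace K242.SiteBif

open ModSite Groth.Agent.Dcoh.CxFun Groth.Agent.PerfC.DInd Groth.Agent.PerfC.DBif Groth.Agent.PerfC.IsoLocus
  Groth.Agent.PerfC K294.KFlat2

variable {C : Type u} [SmallCategory C] {J : GrothendieckTopology C} {O : Sheaf J CommRingCat.{u}}

/-- `tensorCx` is opaque for the kernel, except for this equality. -/
theorem tensorCx_eq : tensorCx O = (tensorBi O).map₂CochainComplex := rfl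

instance (priority := high) htpy_obj (K : CochainComplex (Mod O) ℤ) : HtpyFunctor ((tensorCx O).obj K) :=
  DBifBi.htpy_obj (tensorBi O) tensorCx_eq K

instance (priority := high) htpy_flip_obj (E : CochainComplex (Mod O) ℤ) :
    HtpyFunctor ((tensorCx O).flip.obj E) :=
  DBifBi.htpy_flip_obj (tensorBi O) tensorCx_eq E

instance (priority := high) additive_obj (K : CochainComplex (Mod O) ℤ) : ((tensorCx O).obj K).Additive :=
  DBifBi.additive_obj (tensorBi O) tensorCx_eq K

instance (priority := high) additive_flip_obj (E : CochainComplex (Mod O) ℤ) :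
    ((tensorCx O).flip.obj E).Additive :=
  DBifBi.additive_flip_obj (tensorBi O) tensorCx_eq E

/-- `K ⊗ -` preserves quasi-isomorphisms when `K` is K-flat. -/
lemma quasiIso_obj {K : CochainComplex (Mod O) ℤ} (hK : IsKFlat K)
    {E E' : CochainComplex (Mod O) ℤ} (f : E ⟶ E') (hf : QuasiIso f) :
    QuasiIso (((tensorCx O).obj K).map f) := quasiIso_tensor_left hK f

/-- `- ⊗ E` preserves quasi-isomorphisms when `E` is K-flat. -/
lemma quasiIso_map_app {E : CochainComplex (Mod O) ℤ} (hE : IsKFlat E)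
    {K K' : CochainComplex (Mod O) ℤ} (f : K ⟶ K') (hf : QuasiIso f) :
    QuasiIso (((tensorCx O).map f).app E) := K294.KFl.quasiIso_tensor hE f

/-- A quasi-isomorphism between K-flat complexes remains one after `- ⊗ E`. -/
lemma quasiIso_map_app' {K K' : CochainComplex (Mod O) ℤ} (w : K ⟶ K') (hK : IsKFlat K) (hK' : IsKFlat K')
    (hw : QuasiIso w) (E : CochainComplex (Mod O) ℤ) : QuasiIso (((tensorCx O).map w).app E) := by
  obtain ⟨L, q, hL, -, hq, -⟩ := exists_resolution E
  have h1 := quasiIso_obj hK q hq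
  have h2 := quasiIso_obj hK' q hq
  have h3 := quasiIso_map_app hL w hw
  have h4 : ((tensorCx O).obj K).map q ≫ ((tensorCx O).map w).app E =
    ((tensorCx O).map w).app L ≫ ((tensorCx O).obj K').map q := (((tensorCx O).map w).naturality q)
  have h5 : QuasiIso (((tensorCx O).obj K).map q ≫ ((tensorCx O).map w).app E) := by
    rw [h4]
    infer_instance
  exact quasiIso_of_comp_left (((tensorCx O).obj K).map q) _

variable (O) in
/-- The hypotheses needed in order to define the derived tensor product. -/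
theorem bifData : BifData (tensorCx O) IsKFlat where
  htpy_flip E := inferInstance
  exists_res K := by
    obtain ⟨L, q, hL, -, hq, -⟩ := exists_resolution K
    exact ⟨L, q, hL, hq⟩
  quasiIso_obj L hL _ _ u hu := quasiIso_obj hL u hu
  quasiIso_map w hL hL' hw E := quasiIso_map_app' w hL hL' hw E

/-- `- ⊗ᴸ E` exists for every complex `E`. -/
theorem hasLTensorCx (E : CochainComplex (Mod O) ℤ) : HasLTensorCx E :=
  (bifData O).hasLeftDerivedFunctor E

/-- The derived functors exist. -/
instance hasLT : HasLT (tensorCx O) := ⟨fun E => hasLTensorCx E⟩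

variable (O) in
/-- The derived tensor product. -/
noncomputable def LTS : DCoh.DMod (ringSh O) ⥤ DCoh.DMod (ringSh O) ⥤ DCoh.DMod (ringSh O) := LT (bifData O)

variable (O) in
lemma hasRes : ExtNat.HasRes (A := Mod O) IsKFlat := (bifData O).exists_res

/-- `LTS` recovers `LTensorCx E`. -/
noncomputable def LTScx (E : CochainComplex (Mod O) ℤ) [HasLTensorCx E] :
    (LTS O).flip.obj (DerivedCategory.Q.obj E) ≅ LTensorCx E :=
  LTflip (bifData O) E

/-- The canonical map `K ⊗ᴸ E ⟶ K ⊗ E`. -/
noncomputable def κS (K E : CochainComplex (Mod O) ℤ) :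
    ((LTS O).obj (DerivedCategory.Q.obj K)).obj (DerivedCategory.Q.obj E) ⟶
      DerivedCategory.Q.obj (((tensorCx O).obj K).obj E) :=
  κ (bifData O) K E

@[reassoc]
lemma κS_nat₁ {K K' : CochainComplex (Mod O) ℤ} (w : K ⟶ K') (E : CochainComplex (Mod O) ℤ) :
    ((LTS O).map (DerivedCategory.Q.map w)).app (DerivedCategory.Q.obj E) ≫ κS K' E =
      κS K E ≫ DerivedCategory.Q.map (((tensorCx O).map w).app E) :=
  κ_nat₁ (bifData O) w E

@[reassoc]
lemma κS_nat₂ (K : CochainComplex (Mod O) ℤ) {E E' : CochainComplex (Mod O) ℤ} (u : E ⟶ E') :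
    ((LTS O).obj (DerivedCategory.Q.obj K)).map (DerivedCategory.Q.map u) ≫ κS K E' =
      κS K E ≫ DerivedCategory.Q.map (((tensorCx O).obj K).map u) :=
  κ_nat₂ (bifData O) K u

lemma isIso_κS (K E : CochainComplex (Mod O) ℤ) (hK : IsKFlat K) : IsIso (κS K E) :=
  isIso_κ (bifData O) K hK E

lemma presQis_flip_obj {E : CochainComplex (Mod O) ℤ} (hE : IsKFlat E) :
    PresQis ((tensorCx O).flip.obj E) where
  quasiIso_map f hf := quasiIso_map_app hE f hf

lemma presQis_obj {K : CochainComplex (Mod O) ℤ} (hK : IsKFlat K) :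
    PresQis ((tensorCx O).obj K) where
  quasiIso_map f hf := quasiIso_obj hK f hf

lemma isIso_κS' (K E : CochainComplex (Mod O) ℤ) (hE : IsKFlat E) : IsIso (κS K E) :=
  haveI := presQis_flip_obj hE
  isIso_κ' (bifData O) K E

/-- `K ⊗ᴸ -` is triangulated. -/
lemma isTriang_LTS_obj (K : DCoh.DMod (ringSh O)) : IsTriang ((LTS O).obj K) :=
  DBifBi.isTriang_LT_obj (tensorBi O) tensorCx_eq (bifData O) K

lemma exists_presQis (E : CochainComplex (Mod O) ℤ) : ∃ (E' : CochainComplex (Mod O) ℤ) (w : E' ⟶ E),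
    PresQis ((tensorCx O).flip.obj E') ∧ QuasiIso w := by
  obtain ⟨E', w, hE', hw⟩ := hasRes O E
  exact ⟨E', w, presQis_flip_obj hE', hw⟩

/-- `- ⊗ᴸ E` is triangulated. -/
lemma isTriang_LTS_flip_obj (E : DCoh.DMod (ringSh O)) : IsTriang ((LTS O).flip.obj E) :=
  DBifBi.isTriang_LTf_obj (tensorBi O) tensorCx_eq (bifData O) exists_presQis E

/-- `- ⊗ᴸ E` is triangulated. -/
lemma isTriang_LTensorCx (E : CochainComplex (Mod O) ℤ) [HasLTensorCx E] : IsTriang (LTensorCx E) :=
  (isTriang_LTS_flip_obj (DerivedCategory.Q.obj E)).of_iso (LTScx E)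

end K242.SiteBif
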