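import Groth.Agent.S0973
import Groth.Agent.Perf.K368.BddAmp
import Groth.Agent.PerfC.IsoLocus

/-!
# Amplitude of a triangulated functor on bounded objects
-/

set_option autoImplicit false
universe w w' v v' u u'

open CategoryTheory Category Limits Pretriangulated Triangulated DerivedCategory
open scoped ZeroObject

namespace K242.Devissage

open Groth.Agent.PerfA.PostAbs Groth.Agent.PerfC.IsoLocus

variable {A : Type u} [Category.{v} A] [Abelian A] [HasDerivedCategory.{w} A]
  {B : Type u'} [Category.{v'} B] [Abelian B] [HasDerivedCategory.{w'} B]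

/-- Shifting the bound on objects placed in degree `0`. -/
lemma isGE_single (R : DerivedCategory A ⥤ DerivedCategory B) [R.CommShift ℤ]
    (M : A) (c n : ℤ) (h : (R.obj ((singleFunctor A 0).obj M)).IsGE c) :
    (R.obj ((singleFunctor A n).obj M)).IsGE (n + c) := by
  have e : R.obj ((singleFunctor A n).obj M) ≅ (R.obj ((singleFunctor A 0).obj M))⟦-n⟧ :=
    R.mapIso (((singleFunctors A).shiftIso (-n) n 0 (by simp)).app M).symm ≪≫
      (R.commShiftIso (-n)).app _
  have h1 : tt.IsGE ((R.obj ((singleFunctor A 0).obj M))⟦-n⟧) (n + c) :=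
    tt.isGE_shift _ c (-n) (n + c) (by omega)
  exact @TStructure.isGE_of_iso _ _ _ _ _ _ _ tt _ _ e.symm (n + c) h1

/-- The objects whose image has cohomology in `[α, β]`. -/
def ampP (R : DerivedCategory A ⥤ DerivedCategory B) (α β : ℤ) : ObjectProperty (DerivedCategory A) :=
  fun K => (R.obj K).IsGE α ∧ (R.obj K).IsLE β

variable (R : DerivedCategory A ⥤ DerivedCategory B) (α β : ℤ)

instance : (ampP R α β).IsClosedUnderIsomorphisms where
  of_iso e h := by
    obtain ⟨h1, h2⟩ := h
    exact ⟨@TStructure.isGE_of_iso _ _ _ _ _ _ _ tt _ _ (R.mapIso e) α h1,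
      @TStructure.isLE_of_iso _ _ _ _ _ _ _ tt _ _ (R.mapIso e) β h2⟩

lemma ampP_of_isZero (hR : R.PreservesZeroMorphisms) {K : DerivedCategory A} (hK : IsZero K) : ampP R α β K := by
  have h1 : IsZero (R.obj K) := R.map_isZero hK
  exact ⟨tt.isGE_of_isZero h1 α, tt.isLE_of_isZero h1 β⟩

lemma containsZero (hR : R.PreservesZeroMorphisms) : (ampP R α β).ContainsZero where
  exists_zero := ⟨(singleFunctor A 0).obj 0, (singleFunctor A 0).map_isZero (isZero_zero _),
    ampP_of_isZero R α β hR ((singleFunctor A 0).map_isZero (isZero_zero _))⟩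

lemma isTriangulatedClosed₂ [R.CommShift ℤ] [R.IsTriangulated] : (ampP R α β).IsTriangulatedClosed₂ := by
  refine .mk' fun T hT h1 h3 => ?_
  have hT' := R.map_distinguished _ hT
  exact ⟨tt.isGE₂ _ hT' α h1.1 h3.1, tt.isLE₂ _ hT' β h1.2 h3.2⟩

/-- If `Φ(N[0])` has cohomology in `[m, n]` for all `N`, then `Φ K` has cohomology in `[a + m, b + n]` for
`K` with cohomology in `[a, b]`. -/
theorem amp_of_bounded (hR : IsTriang R) (m n : ℤ)
    (h : ∀ N : A, (R.obj ((singleFunctor A 0).obj N)).IsGE m ∧ (R.obj ((singleFunctor A 0).obj N)).IsLE n)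
    (a b : ℤ) (K : DerivedCategory A) [K.IsGE a] [K.IsLE b] :
    (R.obj K).IsGE (a + m) ∧ (R.obj K).IsLE (b + n) := by
  have hadd := hR.additive
  obtain ⟨_, _⟩ := hR
  have i1 := containsZero R (a + m) (b + n) inferInstance
  have i2 := isTriangulatedClosed₂ R (a + m) (b + n)
  refine Groth.Agent.S0973.devissage (ampP R (a + m) (b + n)) b (b + 1 - a).toNat K ?_ inferInstance ?_
  · exact tt.isGE_of_ge K _ a (by omega)
  · intro j
    by_cases h1 : j < a
    · exact (ampP R (a + m) (b + n)).prop_of_isZero ((singleFunctor A j).map_isZero (K.isZero_of_isGE a j h1))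
    by_cases h2 : b < j
    · exact (ampP R (a + m) (b + n)).prop_of_isZero ((singleFunctor A j).map_isZero (K.isZero_of_isLE b j h2))
    have h3 := isGE_single R ((homologyFunctor A j).obj K) m j (h _).1
    have h4 := K368.BddAmp.isLE_single R ((homologyFunctor A j).obj K) n j (h _).2
    exact ⟨tt.isGE_of_ge _ (a + m) (j + m) (by omega), tt.isLE_of_le _ (j + n) (b + n) (by omega)⟩

end K242.Devissage
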