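import Groth.Agent.PerfB.Betti

/-!
# Vanishing of the differentials of a model whose fibre dimension is maximal

Let `M` be a complex of finite free modules of ranks `n i` on a reduced scheme `U`.  If, at every point, the
fibre cohomology in degree `p` has dimension `n p`, then the differentials of `M` into and out of degree `p`
are zero.
-/

set_option autoImplicit false
universe u v w
open CategoryTheory CategoryTheory.Limits AlgebraicGeometry Opposite
attribute [local instance] HasDerivedCategory.standard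

namespace K242.DiffZero

open Groth.Agent.PerfB.MinModel Groth.Agent.PerfB.FibreDim Groth.Agent.PerfB.Betti Groth.Agent.PerfB.UnitEnd
  Groth.Agent.PerfB.Elim Groth.Agent.Fga.UnitRestrict DerivedCategory

section Linear

variable {K : Type v} [Field K]

lemma d_eq_zero_of_rk (N : CochainComplex (ModuleCat.{w} K) ℤ) (i : ℤ)
    [FiniteDimensional K (LinearMap.range (N.d i (i + 1)).hom)] (h : rk N i = 0) : N.d i (i + 1) = 0 := by
  have h1 : LinearMap.range (N.d i (i + 1)).hom = ⊥ := Submodule.finrank_eq_zero.1 h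
  ext x
  have : (N.d i (i + 1)).hom x ∈ LinearMap.range (N.d i (i + 1)).hom := ⟨x, rfl⟩
  rw [h1] at this
  exact this

lemma d_eq_zero (N : CochainComplex (ModuleCat.{w} K) ℤ) (i : ℤ) [FiniteDimensional K (N.X i)]
    [FiniteDimensional K (N.X (i - 1))]
    (h : Module.finrank K (N.homology i) = Module.finrank K (N.X i)) :
    N.d (i - 1) (i - 1 + 1) = 0 ∧ N.d i (i + 1) = 0 := by
  have h0 := finrank_homology_cx N i
  exact ⟨d_eq_zero_of_rk N (i - 1) (by omega), d_eq_zero_of_rk N i (by omega)⟩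

lemma d_eq_zero' {R : Type u} [Ring R] (hR : IsField R) (N : CochainComplex (ModuleCat.{w} R) ℤ) (i : ℤ)
    (hf : Module.Finite R (N.X i)) (hf' : Module.Finite R (N.X (i - 1)))
    (h : Module.finrank R (N.homology i) = Module.finrank R (N.X i)) :
    N.d (i - 1) (i - 1 + 1) = 0 ∧ N.d i (i + 1) = 0 := by
  let _ : Field R := hR.toField
  exact d_eq_zero (K := R) N i h

end Linear

section Sec

variable {X : Scheme.{u}}

lemma fn_eq_zero (a : Coh.structureModule X ⟶ Coh.structureModule X) (h : sec a = 0) (U : X.Opens)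
    (t : Γ(X, U)) : fn a U t = 0 := by
  rw [fn_eq, h, map_zero, mul_zero]

lemma eq_zero_of_sec (a : Coh.structureModule X ⟶ Coh.structureModule X) (h : sec a = 0) : a = 0 := by
  apply Scheme.Modules.hom_ext
  intro U
  ext t
  exact fn_eq_zero a h U t

lemma sec_eq_zero_of_Γf (a : Coh.structureModule X ⟶ Coh.structureModule X) (h : (Γf X).map a = 0) :
    sec a = 0 := by
  have h1 := congrArg (fun φ : (Γf X).obj (Coh.structureModule X) ⟶ (Γf X).obj (Coh.structureModule X) =>
    φ.hom (1 : Γ(X, ⊤))) h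
  exact h1

/-- A morphism of free modules which is zero on global sections is zero. -/
lemma free_map_eq_zero {m n : ℕ} (d : FlatMod.freeMod X m ⟶ FlatMod.freeMod X n) (h : (Γf X).map d = 0) :
    d = 0 := by
  refine map_eq_zero_of_entries (𝟭 X.Modules) (O := Coh.structureModule X) d fun p q => ?_
  apply eq_zero_of_sec
  apply sec_eq_zero_of_Γf
  rw [Functor.map_comp, Functor.map_comp]
  change (Γf X).map _ ≫ (Γf X).map d ≫ (Γf X).map _ = 0
  rw [h, zero_comp, comp_zero]

/-- If `g^*` kills `a : O_X ⟶ O_X`, then `g^#` kills the function `a(1)`. -/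
lemma appTop_sec_eq_zero (a : Coh.structureModule X ⟶ Coh.structureModule X) {T : Scheme.{u}}
    (g : T ⟶ X) (h : (Scheme.Modules.pullback g).map a = 0) : g.appTop (sec a) = 0 := by
  have e : a ≫ unitToPush g = 0 := by
    rw [← unit_pullbackUnitHom]
    have := (Scheme.Modules.pullbackPushforwardAdjunction g).unit.naturality a
    rw [Functor.id_map] at this
    rw [← Category.assoc, this, Functor.comp_map, h, Functor.map_zero, comp_zero, zero_comp]
  have h1 := congrArg (fun φ : Coh.structureModule X ⟶ _ => (Scheme.Modules.Hom.app φ ⊤) (1 : Γ(X, ⊤))) e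
  exact h1

end Sec

section Reduced

variable {X : Scheme.{u}} {U : Scheme.{u}} (j : U ⟶ X) [IsOpenImmersion j]

lemma lift_apply (x : X) (hx : x ∈ Set.range j) (z : Spec (X.residueField x)) : j (lift x j hx z) = x := by
  have h := congrArg (fun g : Spec (X.residueField x) ⟶ X => g z) (lift_fac x j hx)
  exact h.trans (Scheme.fromSpecResidueField_apply _ _)

lemma sec_eq_zero_of_forall_fibre [IsReduced U] (a : Coh.structureModule U ⟶ Coh.structureModule U)
    (h : ∀ u : U, (Scheme.Modules.pullback (lift (j u) j ⟨u, rfl⟩)).map a = 0) : sec a = 0 := by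
  rw [← AlgebraicGeometry.basicOpen_eq_bot_iff]
  ext u
  simp only [SetLike.mem_coe, TopologicalSpace.Opens.coe_bot, Set.mem_empty_iff_false, iff_false]
  intro hu
  have h0 := appTop_sec_eq_zero a _ (h u)
  have e := Scheme.preimage_basicOpen (lift (j u) j ⟨u, rfl⟩) (sec a)
  let z : Spec (X.residueField (j u)) := Classical.arbitrary _
  have hz : z ∈ (lift (j u) j ⟨u, rfl⟩) ⁻¹ᵁ U.basicOpen (sec a) := by
    change (lift (j u) j ⟨u, rfl⟩) z ∈ U.basicOpen (sec a)
    have : (lift (j u) j ⟨u, rfl⟩) z = u := by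
      apply j.isOpenEmbedding.injective
      exact lift_apply j (j u) ⟨u, rfl⟩ z
    rw [this]
    exact hu
  rw [e] at hz
  have h2 : (Spec (X.residueField (j u))).basicOpen ((lift (j u) j ⟨u, rfl⟩).appTop (sec a)) = ⊥ := by
    rw [h0]
    exact Scheme.basicOpen_zero _ _
  change z ∈ (Spec (X.residueField (j u))).basicOpen ((lift (j u) j ⟨u, rfl⟩).appTop (sec a)) at hz
  rw [h2] at hz
  exact hz

lemma free_map_eq_zero_of_forall_fibre [IsReduced U] {m n : ℕ}
    (d : FlatMod.freeMod U m ⟶ FlatMod.freeMod U n)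
    (h : ∀ u : U, (Scheme.Modules.pullback (lift (j u) j ⟨u, rfl⟩)).map d = 0) : d = 0 := by
  refine map_eq_zero_of_entries (𝟭 U.Modules) (O := Coh.structureModule U) d fun p q => ?_
  apply eq_zero_of_sec
  apply sec_eq_zero_of_forall_fibre j
  intro u
  change (Scheme.Modules.pullback (lift (j u) j ⟨u, rfl⟩)).map (_ ≫ d ≫ _) = 0
  rw [Functor.map_comp, Functor.map_comp, h, zero_comp, comp_zero]

/-- Transport to arbitrary modules isomorphic to free ones. -/
lemma map_eq_zero_of_forall_fibre [IsReduced U] {m n : ℕ} {A B : U.Modules}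
    (hA : Nonempty (A ≅ FlatMod.freeMod U m)) (hB : Nonempty (B ≅ FlatMod.freeMod U n)) (d : A ⟶ B)
    (h : ∀ u : U, (Scheme.Modules.pullback (lift (j u) j ⟨u, rfl⟩)).map d = 0) : d = 0 := by
  obtain ⟨a⟩ := hA
  obtain ⟨b⟩ := hB
  have h1 : a.inv ≫ d ≫ b.hom = 0 := by
    apply free_map_eq_zero_of_forall_fibre j
    intro u
    rw [Functor.map_comp, Functor.map_comp, h, zero_comp, comp_zero]
  rw [← cancel_epi a.inv, ← cancel_mono b.hom, Category.assoc, h1, comp_zero, zero_comp]

end Reduced

section Fibre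

variable {T : Scheme.{u}}

lemma map_eq_zero_of_Γf {m n : ℕ} {A B : T.Modules}
    (hA : Nonempty (A ≅ FlatMod.freeMod T m)) (hB : Nonempty (B ≅ FlatMod.freeMod T n)) (d : A ⟶ B)
    (h : (Γf T).map d = 0) : d = 0 := by
  obtain ⟨a⟩ := hA
  obtain ⟨b⟩ := hB
  have h1 : a.inv ≫ d ≫ b.hom = 0 := by
    apply free_map_eq_zero
    rw [Functor.map_comp, Functor.map_comp, h, zero_comp, comp_zero]
  rw [← cancel_epi a.inv, ← cancel_mono b.hom, Category.assoc, h1, comp_zero, zero_comp]

/-- If the fibre cohomology has maximal dimension then the differentials vanish. -/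
theorem fibre_d_eq_zero [Subsingleton T] [Nonempty T] (hT : IsField (Coh.Γtop T)) (N : CochainComplex T.Modules ℤ) {n : ℤ → ℕ}
    (hN : TermsFree N n) (i : ℤ)
    (h : Module.finrank (Coh.Γtop T) ((Γf T).obj (N.homology i)) = n i) :
    N.d (i - 1) (i - 1 + 1) = 0 ∧ N.d i (i + 1) = 0 := by
  have h1 := d_eq_zero' hT (((Γf T).mapHomologicalComplex (ComplexShape.up ℤ)).obj N) i
    (finite_Γf_of_iso _ _ (hN i)) (finite_Γf_of_iso _ _ (hN (i - 1)))
    ((homologyΓ N i).toLinearEquiv.finrank_eq.trans (h.trans (finrank_Γf_of_iso hT _ _ (hN i)).symm))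
  exact ⟨map_eq_zero_of_Γf (hN _) (hN _) _ h1.1, map_eq_zero_of_Γf (hN _) (hN _) _ h1.2⟩

end Fibre

section Main

variable {X : Scheme.{u}} {U : Scheme.{u}} (j : U ⟶ X) [IsOpenImmersion j]

/-- The differentials of the model into and out of degree `i` vanish if the fibre cohomology has dimension
`n i` at every point of the (reduced) scheme. -/
theorem d_eq_zero_of_betti [IsReduced U] {M : CochainComplex U.Modules ℤ} {n : ℤ → ℕ} (hM : TermsFree M n)
    {a b : ℤ} (hn : ∀ i, i < a ∨ b < i → n i = 0) (E : DCoh.D X)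
    [∀ x : X, DCoh.HasLpull (X.fromSpecResidueField x)] (m : ℤ)
    (α : Q.obj M ⟶ (DCoh.restrictD j).obj E)
    (h1 : ∀ i : ℤ, m < i → IsIso ((homologyFunctor _ i).map α))
    (h2 : Epi ((homologyFunctor _ m).map α)) (i : ℤ) (hi : m < i)
    (h : ∀ u : U, PerfD.betti E (j u) i = n i) : M.d (i - 1) (i - 1 + 1) = 0 ∧ M.d i (i + 1) = 0 := by
  have key : ∀ u : U, (fib (j u) j M ⟨u, rfl⟩).d (i - 1) (i - 1 + 1) = 0 ∧
      (fib (j u) j M ⟨u, rfl⟩).d i (i + 1) = 0 := by
    intro u
    refine fibre_d_eq_zero (isField_Γtop_residueField X (j u)) _ (termsFree_fib (j u) j hM ⟨u, rfl⟩) i ?_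
    rw [← betti_eq_finrank (j u) j hM hn ⟨u, rfl⟩ E m α h1 h2 i hi]
    exact h u
  exact ⟨map_eq_zero_of_forall_fibre j (hM _) (hM _) _ fun u => (key u).1,
    map_eq_zero_of_forall_fibre j (hM _) (hM _) _ fun u => (key u).2⟩

end Main

end K242.DiffZero
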