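import Groth.Agent.KSix.K242.QCohKit
import Groth.Agent.PerfA.QCohD
import Groth.Agent.S1118

/-!
# The projection formula, natural in the quasi-coherent module on the base

For `f : X ⟶ Y` quasi-compact and quasi-separated and `F` a complex of `O_X`-modules with quasi-coherent cohomology,
`M ↦ Rf_*(Lf^* M ⊗ᴸ F)` and `M ↦ M ⊗ᴸ G` (`G` a complex representing `Rf_* F`) are isomorphic functors on
`QCoh(Y)`.
-/

set_option autoImplicit false

universe u

open CategoryTheory CategoryTheory.Limits AlgebraicGeometry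
open Groth.Agent.PerfC.IsoLocus Groth.Agent.PerfC.DTens Groth.Agent.PerfC.LpullTens

attribute [local instance] HasDerivedCategory.standard

namespace K242.ProjNat

variable {X Y : Scheme.{u}}

/-- `- ⊗ᴸ F ≅ F ⊗ᴸ -`. -/
noncomputable def ltIso (F : CochainComplex X.Modules ℤ) [DCoh.HasLTensorCx F] :
    DCoh.LTensorCx F ≅ (LTX X).obj (DerivedCategory.Q.obj F) :=
  (LTXcx F).symm ≪≫ (symmIso X).app (DerivedCategory.Q.obj F)

/-- `- ⊗ᴸ G ≅ K ⊗ᴸ -` for `G` representing `K`. -/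
noncomputable def ltIso' (G : CochainComplex X.Modules ℤ) [DCoh.HasLTensorCx G] {K : DCoh.D X}
    (e : DCoh.toD X G ≅ K) : DCoh.LTensorCx G ≅ (LTX X).obj K :=
  ltIso G ≪≫ (LTX X).mapIso e

lemma isQCohD_single {M : X.Modules} (hM : QCohCat.isQCoh X M) :
    DCoh.IsQCohD ((DerivedCategory.singleFunctor X.Modules 0).obj M) :=
  Groth.Agent.PerfA.QCohD.isQCohD_single M hM 0

section

variable (f : X ⟶ Y) [QuasiCompact f] [QuasiSeparated f] [DCoh.HasRpush f] [DCoh.HasLpull f]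

/-- The natural projection map on `QCoh(Y)`. -/
noncomputable def thetaQ (E : DCoh.D X) :
    (QCohCat.isQCoh Y).ι ⋙ DerivedCategory.singleFunctor Y.Modules 0 ⋙ (LTX Y).obj ((DCoh.Rpush f).obj E) ⟶
      (QCohCat.isQCoh Y).ι ⋙ DerivedCategory.singleFunctor Y.Modules 0 ⋙ DCoh.Lpull f ⋙ (LTX X).obj E ⋙
        DCoh.Rpush f :=
  Functor.whiskerLeft _ (Functor.whiskerLeft _ (theta f E))

theorem isIso_thetaQ (E : DCoh.D X) (hE : DCoh.IsQCohD E) : IsIso (thetaQ f E) := by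
  rw [NatTrans.isIso_iff_isIso_app]
  intro M
  exact Groth.Agent.S1118.isIso_theta_app f E hE _ (isQCohD_single M.property)

/-- The projection formula, natural on `QCoh(Y)`. -/
theorem nonempty_projIso (F : CochainComplex X.Modules ℤ) [DCoh.HasLTensorCx F]
    (hF : DCoh.IsQCohD (DCoh.toD X F)) (G : CochainComplex Y.Modules ℤ) [DCoh.HasLTensorCx G]
    (e : DCoh.toD Y G ≅ (DCoh.Rpush f).obj (DCoh.toD X F)) :
    Nonempty ((QCohCat.isQCoh Y).ι ⋙ DerivedCategory.singleFunctor Y.Modules 0 ⋙ DCoh.LTensorCx G ≅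
      (QCohCat.isQCoh Y).ι ⋙ DerivedCategory.singleFunctor Y.Modules 0 ⋙ DCoh.Lpull f ⋙ DCoh.LTensorCx F ⋙
        DCoh.Rpush f) := by
  have := isIso_thetaQ f (DCoh.toD X F) hF
  exact ⟨Functor.isoWhiskerLeft _ (Functor.isoWhiskerLeft _ (ltIso' G e)) ≪≫ asIso (thetaQ f (DCoh.toD X F)) ≪≫
    Functor.isoWhiskerLeft _ (Functor.isoWhiskerLeft _ (Functor.isoWhiskerLeft _
      (Functor.isoWhiskerRight (ltIso F).symm _)))⟩

/-- The higher direct images `M ↦ R^p f_*(Lf^* M ⊗ᴸ F)` are the functors `M ↦ H^p(M ⊗ᴸ G)`. -/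
theorem nonempty_projIso_homology (F : CochainComplex X.Modules ℤ) [DCoh.HasLTensorCx F]
    (hF : DCoh.IsQCohD (DCoh.toD X F)) (G : CochainComplex Y.Modules ℤ) [DCoh.HasLTensorCx G]
    (e : DCoh.toD Y G ≅ (DCoh.Rpush f).obj (DCoh.toD X F)) (p : ℤ) :
    Nonempty ((QCohCat.isQCoh Y).ι ⋙ DerivedCategory.singleFunctor Y.Modules 0 ⋙ DCoh.LTensorCx G ⋙
        DerivedCategory.homologyFunctor Y.Modules p ≅
      (QCohCat.isQCoh Y).ι ⋙ DerivedCategory.singleFunctor Y.Modules 0 ⋙ DCoh.Lpull f ⋙ DCoh.LTensorCx F ⋙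
        DCoh.Rpush f ⋙ DerivedCategory.homologyFunctor Y.Modules p) := by
  obtain ⟨i⟩ := nonempty_projIso f F hF G e
  exact ⟨Functor.isoWhiskerRight i (DerivedCategory.homologyFunctor Y.Modules p)⟩

end

end K242.ProjNat
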