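import Groth.Agent.KSix.K242.ExactQ
import Groth.Agent.KSix.K242.ProjNat
import Groth.Agent.KSix.K240.RelNoeth
import Groth.Agent.S6235

/-!
# Exactness of `M ↦ R^p f_*(Lf^* M ⊗ᴸ F)` on `QCoh(Y)`
-/

set_option autoImplicit false

universe u

open CategoryTheory CategoryTheory.Limits AlgebraicGeometry
open Groth.Agent.PerfC.IsoLocus DerivedCategory Groth.Agent.PerfB.MinModel Groth.Agent.PerfB.Betti
  Groth.Agent.Dcoh.LocalD K242.SchemeT K242.Termwise K242.LocExact K242.ExactQ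

attribute [local instance] HasDerivedCategory.standard

namespace K242.Direct

variable {X Y : Scheme.{u}}

theorem exact_direct (f : X ⟶ Y) [QuasiCompact f] [QuasiSeparated f] [DCoh.HasRpush f] [DCoh.HasLpull f]
    (F : CochainComplex X.Modules ℤ) [DCoh.HasLTensorCx F] (hF : DCoh.IsQCohD (DCoh.toD X F)) (p : ℤ)
    (h : (TX ((DCoh.Rpush f).obj (DCoh.toD X F)) p).PreservesMonomorphisms ∧
      (TX ((DCoh.Rpush f).obj (DCoh.toD X F)) p).PreservesEpimorphisms) :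
    PreservesFiniteLimits ((QCohCat.isQCoh Y).ι ⋙ DerivedCategory.singleFunctor Y.Modules 0 ⋙
      DCoh.Lpull f ⋙ DCoh.LTensorCx F ⋙ DCoh.Rpush f ⋙ DerivedCategory.homologyFunctor Y.Modules p) ∧
    PreservesFiniteColimits ((QCohCat.isQCoh Y).ι ⋙ DerivedCategory.singleFunctor Y.Modules 0 ⋙
      DCoh.Lpull f ⋙ DCoh.LTensorCx F ⋙ DCoh.Rpush f ⋙ DerivedCategory.homologyFunctor Y.Modules p) := by
  obtain ⟨G, ⟨e⟩⟩ := Groth.Agent.PerfA.Restrict.exists_rep Y ((DCoh.Rpush f).obj (DCoh.toD X F))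
  have := Groth.Agent.PerfC.DTens.hasLTensorCx G
  obtain ⟨i⟩ := K242.ProjNat.nonempty_projIso_homology f F hF G e p
  obtain ⟨h1, h2⟩ := h
  obtain ⟨h3, h4⟩ := exact_ltensor G p
    ⟨preservesMono_of_iso (tMapIso e p).symm h1, preservesEpi_of_iso (tMapIso e p).symm h2⟩
  exact ⟨preservesFiniteLimits_of_natIso i, preservesFiniteColimits_of_natIso i⟩

/-- The reduction of the converse statements: the functor on `QCoh(Y)` for a representative of `Rf_* F`. -/
theorem exists_rep_direct (f : X ⟶ Y) [QuasiCompact f] [QuasiSeparated f] [DCoh.HasRpush f] [DCoh.HasLpull f]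
    (F : CochainComplex X.Modules ℤ) [DCoh.HasLTensorCx F] (hF : DCoh.IsQCohD (DCoh.toD X F)) (p : ℤ)
    [PreservesFiniteLimits ((QCohCat.isQCoh Y).ι ⋙ DerivedCategory.singleFunctor Y.Modules 0 ⋙
      DCoh.Lpull f ⋙ DCoh.LTensorCx F ⋙ DCoh.Rpush f ⋙ DerivedCategory.homologyFunctor Y.Modules p)]
    [PreservesFiniteColimits ((QCohCat.isQCoh Y).ι ⋙ DerivedCategory.singleFunctor Y.Modules 0 ⋙
      DCoh.Lpull f ⋙ DCoh.LTensorCx F ⋙ DCoh.Rpush f ⋙ DerivedCategory.homologyFunctor Y.Modules p)] :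
    ∃ (G : CochainComplex Y.Modules ℤ) (_ : DCoh.toD Y G ≅ (DCoh.Rpush f).obj (DCoh.toD X F))
      (_ : DCoh.HasLTensorCx G),
      PreservesFiniteLimits ((QCohCat.isQCoh Y).ι ⋙ DerivedCategory.singleFunctor Y.Modules 0 ⋙
        DCoh.LTensorCx G ⋙ DerivedCategory.homologyFunctor Y.Modules p) ∧
      PreservesFiniteColimits ((QCohCat.isQCoh Y).ι ⋙ DerivedCategory.singleFunctor Y.Modules 0 ⋙
        DCoh.LTensorCx G ⋙ DerivedCategory.homologyFunctor Y.Modules p) := by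
  obtain ⟨G, ⟨e⟩⟩ := Groth.Agent.PerfA.Restrict.exists_rep Y ((DCoh.Rpush f).obj (DCoh.toD X F))
  have h := Groth.Agent.PerfC.DTens.hasLTensorCx G
  obtain ⟨i⟩ := K242.ProjNat.nonempty_projIso_homology f F hF G e p
  exact ⟨G, e, h, preservesFiniteLimits_of_natIso i.symm, preservesFiniteColimits_of_natIso i.symm⟩

end K242.Direct
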