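import Groth.Agent.KSix.K242.Direct
import Groth.Agent.S6221
import Groth.Agent.S6236
import Groth.Agent.S6244
import Groth.Agent.S11115
import Groth.Agent.S0998

/-!
# The converse for projective morphisms
-/

set_option autoImplicit false

universe u

open CategoryTheory CategoryTheory.Limits AlgebraicGeometry
open Groth.Agent.PerfC.IsoLocus DerivedCategory Groth.Agent.PerfB.MinModel Groth.Agent.PerfB.Betti
  Groth.Agent.Dcoh.LocalD K242.SchemeT K242.Termwise K242.LocExact K242.ExactQ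

attribute [local instance] HasDerivedCategory.standard

namespace K242.Direct2

variable {X Y : Scheme.{u}}

lemma betti_of_iso {E F : DCoh.D X} (e : E ≅ F) (x : X) [DCoh.HasLpull (X.fromSpecResidueField x)] (i : ℤ) :
    PerfD.betti E x i = PerfD.betti F x i := by
  let e' := (Groth.Agent.PerfB.FibreDim.Γf (Spec (X.residueField x))).mapIso ((DerivedCategory.homologyFunctor _ i).mapIso
    ((DCoh.Lpull (X.fromSpecResidueField x)).mapIso e))
  exact e'.toLinearEquiv.finrank_eq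

/-- Exactness of `M ↦ R^p f_*(Lf^* M ⊗ᴸ F)` on `QCoh(Y)` implies that `R^p f_* F` is finite locally free. -/
theorem converse (f : X ⟶ Y) [QuasiCompact f] [QuasiSeparated f] [CompactSpace Y] [QuasiSeparatedSpace Y]
    [DCoh.HasRpush f] [DCoh.HasLpull f]
    (F : CochainComplex X.Modules ℤ) [DCoh.HasLTensorCx F] (hF : DCoh.IsQCohD (DCoh.toD X F)) (a : ℤ)
    [(DCoh.toD X F).IsGE a] (p : ℤ)
    [PreservesFiniteLimits ((QCohCat.isQCoh Y).ι ⋙ DerivedCategory.singleFunctor Y.Modules 0 ⋙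
      DCoh.Lpull f ⋙ DCoh.LTensorCx F ⋙ DCoh.Rpush f ⋙ DerivedCategory.homologyFunctor Y.Modules p)]
    [PreservesFiniteColimits ((QCohCat.isQCoh Y).ι ⋙ DerivedCategory.singleFunctor Y.Modules 0 ⋙
      DCoh.Lpull f ⋙ DCoh.LTensorCx F ⋙ DCoh.Rpush f ⋙ DerivedCategory.homologyFunctor Y.Modules p)]
    [∀ y : Y, DCoh.HasLpull (Y.fromSpecResidueField y)]
    (hK : ∀ m, DerSch.IsPseudoCoherentRel (𝟙 Y) m ((DCoh.Rpush f).obj (DCoh.toD X F))) :
    FlatMod.IsFinLocFree (DCoh.HD ((DCoh.Rpush f).obj (DCoh.toD X F)) p) ∧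
      IsLocallyConstant (fun y : Y => PerfD.betti ((DCoh.Rpush f).obj (DCoh.toD X F)) y p) := by
  obtain ⟨G, e, hG, h1, h2⟩ := K242.Direct.exists_rep_direct f F hF p
  obtain ⟨b, hb⟩ := Groth.Agent.S6236.result (𝟙 Y) 0 _ (hK 0)
  have hge := Groth.Agent.S11115.result f (DCoh.toD X F) a
  have hle' : (DCoh.toD Y G).IsLE b := ⟨(DerivedCategory.TStructure.t.isLE_of_iso e.symm b).le⟩
  have hge' : (DCoh.toD Y G).IsGE a := ⟨(DerivedCategory.TStructure.t.isGE_of_iso e.symm a).ge⟩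
  have hq := Groth.Agent.S0998.result f _ hF
  have hq' : DCoh.IsQCohD (DCoh.toD Y G) := Groth.Agent.PerfA.AffModel.isQCohD_of_iso e.symm hq
  have hpc : DCoh.IsPseudoCoherentD (p - 1) (DCoh.toD Y G) :=
    Groth.Agent.Dcoh.LocalD.isPseudoCoherentD_of_iso e.symm
      ((K240.RelBasic.isPseudoCoherentRel_flat_iff (𝟙 Y) (p - 1) _).1 (hK (p - 1)))
  obtain ⟨h3, h4⟩ := Groth.Agent.S6244.result G b p hq' (fun x => ⟨⊤, a, trivial, fun i hi =>
    (Scheme.Modules.restrictFunctor (⊤ : Y.Opens).ι).map_isZero ((DCoh.toD Y G).isZero_of_isGE a i hi)⟩) hpc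
  refine ⟨Groth.Agent.Dcoh.LocalD.isFinLocFree_of_iso ((DerivedCategory.homologyFunctor _ p).mapIso e) h4, ?_⟩
  have : (fun y : Y => PerfD.betti ((DCoh.Rpush f).obj (DCoh.toD X F)) y p) =
      fun y : Y => PerfD.betti (DCoh.toD Y G) y p := funext fun y => betti_of_iso e.symm y p
  rw [this]
  exact h3

end K242.Direct2
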