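import Mathlib.Algebra.Homology.DerivedCategory.HomologySequence
import Mathlib.Algebra.Homology.DerivedCategory.SingleTriangle
import Mathlib.Algebra.Homology.ShortComplex.ExactFunctor
import Groth.Agent.PerfC.IsoLocus

/-!
# Exactness of the functors `M ↦ H^n(Φ(M[0]))` for a triangulated functor `Φ`

`T ι Φ n = ι ⋙ single 0 ⋙ Φ ⋙ H^n` where `ι : Q ⥤ A` is exact (`Q`, `A` abelian) and `Φ : D(A) ⥤ D(B)` is
triangulated.  Such a functor is half exact, and it is right exact if and only if the next one is left exact.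
-/

set_option autoImplicit false

open CategoryTheory Category Limits Pretriangulated DerivedCategory
open Groth.Agent.PerfC.IsoLocus

namespace K242.ExactKit

universe w₁ w₂ v₁ v₂ v₃ u₁ u₂ u₃

variable {Q : Type u₁} [Category.{v₁} Q] [Abelian Q] {A : Type u₂} [Category.{v₂} A] [Abelian A]
  {B : Type u₃} [Category.{v₃} B] [Abelian B] [HasDerivedCategory.{w₁} A] [HasDerivedCategory.{w₂} B]

/-- `M ↦ H^n(Φ(ι(M)[0]))`. -/
noncomputable abbrev T (ι : Q ⥤ A) (Φ : DerivedCategory A ⥤ DerivedCategory B) (n : ℤ) : Q ⥤ B :=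
  ι ⋙ singleFunctor A 0 ⋙ Φ ⋙ homologyFunctor B n

section

variable (ι : Q ⥤ A) [ι.Additive] [PreservesFiniteLimits ι] [PreservesFiniteColimits ι]
  (Φ : DerivedCategory A ⥤ DerivedCategory B) (hΦ : IsTriang Φ)

omit [PreservesFiniteLimits ι] [PreservesFiniteColimits ι] in
include hΦ in
lemma additive_T (n : ℤ) : (T ι Φ n).Additive := by
  have := hΦ.additive
  infer_instance

/-- The distinguished triangle attached to a short exact sequence. -/
noncomputable def tri [Φ.CommShift ℤ] {S : ShortComplex Q} (hS : S.ShortExact) : Triangle (DerivedCategory B) :=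
  Φ.mapTriangle.obj (ShortComplex.ShortExact.singleTriangle (hS.map_of_exact ι))

lemma tri_dist [Φ.CommShift ℤ] [Φ.IsTriangulated] {S : ShortComplex Q} (hS : S.ShortExact) :
    tri ι Φ hS ∈ distTriang _ :=
  Φ.map_distinguished _ (ShortComplex.ShortExact.singleTriangle_distinguished _)

include hΦ in
/-- Half exactness. -/
lemma exact_T (n : ℤ) {S : ShortComplex Q} (hS : S.ShortExact) :
    haveI := additive_T ι Φ hΦ n
    (S.map (T ι Φ n)).Exact := by
  obtain ⟨_, _⟩ := hΦ
  exact HomologySequence.exact₂ _ (tri_dist ι Φ hS) n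

include hΦ in
/-- `T^n(M) → T^n(M'')` is an epimorphism iff `T^{n+1}(M') → T^{n+1}(M)` is a monomorphism. -/
lemma epi_iff_mono_succ (n : ℤ) {S : ShortComplex Q} (hS : S.ShortExact) :
    Epi ((T ι Φ n).map S.g) ↔ Mono ((T ι Φ (n + 1)).map S.f) := by
  obtain ⟨_, _⟩ := hΦ
  exact (HomologySequence.epi_homologyMap_mor₂_iff _ (tri_dist ι Φ hS) n (n + 1)).trans
    (HomologySequence.mono_homologyMap_mor₁_iff _ (tri_dist ι Φ hS) n (n + 1)).symm

include hΦ in
theorem preservesFiniteColimits_iff (n : ℤ) :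
    PreservesFiniteColimits (T ι Φ n) ↔ ∀ S : ShortComplex Q, S.ShortExact → Epi ((T ι Φ n).map S.g) := by
  have := additive_T ι Φ hΦ n
  rw [Functor.preservesFiniteColimits_iff_forall_exact_map_and_epi]
  exact ⟨fun h S hS => (h S hS).2, fun h S hS => ⟨exact_T ι Φ hΦ n hS, h S hS⟩⟩

include hΦ in
theorem preservesFiniteLimits_iff (n : ℤ) :
    PreservesFiniteLimits (T ι Φ n) ↔ ∀ S : ShortComplex Q, S.ShortExact → Mono ((T ι Φ n).map S.f) := by
  have := additive_T ι Φ hΦ n
  rw [Functor.preservesFiniteLimits_iff_forall_exact_map_and_mono]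
  exact ⟨fun h S hS => (h S hS).2, fun h S hS => ⟨exact_T ι Φ hΦ n hS, h S hS⟩⟩

include hΦ in
/-- `T^n` is right exact if and only if `T^{n+1}` is left exact. -/
theorem rightExact_iff_leftExact_succ (n : ℤ) :
    PreservesFiniteColimits (T ι Φ n) ↔ PreservesFiniteLimits (T ι Φ (n + 1)) := by
  rw [preservesFiniteColimits_iff ι Φ hΦ, preservesFiniteLimits_iff ι Φ hΦ]
  exact forall_congr' fun S => forall_congr' fun hS => epi_iff_mono_succ ι Φ hΦ n hS

include hΦ in
/-- `T^n` is left exact iff it preserves monomorphisms. -/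
theorem preservesFiniteLimits_iff_mono (n : ℤ) :
    PreservesFiniteLimits (T ι Φ n) ↔ (T ι Φ n).PreservesMonomorphisms := by
  constructor
  · intro h
    infer_instance
  · intro h
    rw [preservesFiniteLimits_iff ι Φ hΦ]
    intro S hS
    have := hS.mono_f
    infer_instance

end

end K242.ExactKit
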