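import Groth.Agent.KSix.K242.LocExact
import Groth.Agent.KSix.K242.QCohKit

/-!
# Exactness of `M ↦ H^p(M ⊗ᴸ F)` on `QCoh(X)` for `X` reduced and `x ↦ dim H^p(F ⊗ᴸ κ(x))` locally constant
-/

set_option autoImplicit false

universe u

open CategoryTheory CategoryTheory.Limits AlgebraicGeometry
open Groth.Agent.PerfC.IsoLocus DerivedCategory Groth.Agent.PerfB.MinModel Groth.Agent.PerfB.Betti
  Groth.Agent.Dcoh.LocalD K242.SchemeT K242.Termwise K242.LocExact

attribute [local instance] HasDerivedCategory.standard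

namespace K242.ExactQ

variable {X : Scheme.{u}}

theorem exact_ltensor (F : CochainComplex X.Modules ℤ) [DCoh.HasLTensorCx F] (p : ℤ)
    (h : (TX (DCoh.toD X F) p).PreservesMonomorphisms ∧ (TX (DCoh.toD X F) p).PreservesEpimorphisms) :
    PreservesFiniteLimits ((QCohCat.isQCoh X).ι ⋙ DerivedCategory.singleFunctor X.Modules 0 ⋙
      DCoh.LTensorCx F ⋙ DerivedCategory.homologyFunctor X.Modules p) ∧
    PreservesFiniteColimits ((QCohCat.isQCoh X).ι ⋙ DerivedCategory.singleFunctor X.Modules 0 ⋙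
      DCoh.LTensorCx F ⋙ DerivedCategory.homologyFunctor X.Modules p) := by
  obtain ⟨h1, h2⟩ := h
  have hι : PreservesFiniteLimits (QCohCat.isQCoh X).ι := inferInstance
  have hι' : PreservesFiniteColimits (QCohCat.isQCoh X).ι := inferInstance
  have hT := Groth.Agent.PerfC.DTens.isTriang_LTensorCx F
  constructor
  · refine (K242.ExactKit.preservesFiniteLimits_iff (QCohCat.isQCoh X).ι (DCoh.LTensorCx F) hT p).2 fun S hS => ?_
    have := hS.mono_f
    have h3 : Mono ((QCohCat.isQCoh X).ι.map S.f) := inferInstance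
    exact (mono_map_iff_of_iso (tIso F p) ((QCohCat.isQCoh X).ι.map S.f)).2
      (inferInstance : Mono ((TX (DCoh.toD X F) p).map ((QCohCat.isQCoh X).ι.map S.f)))
  · refine (K242.ExactKit.preservesFiniteColimits_iff (QCohCat.isQCoh X).ι (DCoh.LTensorCx F) hT p).2
      fun S hS => ?_
    have := hS.epi_g
    have h3 : Epi ((QCohCat.isQCoh X).ι.map S.g) := inferInstance
    exact (epi_map_iff_of_iso (tIso F p) ((QCohCat.isQCoh X).ι.map S.g)).2
      (inferInstance : Epi ((TX (DCoh.toD X F) p).map ((QCohCat.isQCoh X).ι.map S.g)))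

theorem exact_of_betti [IsReduced X] [∀ x : X, DCoh.HasLpull (X.fromSpecResidueField x)]
    (F : CochainComplex X.Modules ℤ) [DCoh.HasLTensorCx F] (p : ℤ)
    (hE : DCoh.IsPseudoCoherentD (p - 1) (DCoh.toD X F))
    (hc : IsLocallyConstant (fun x : X => PerfD.betti (DCoh.toD X F) x p)) :
    PreservesFiniteLimits ((QCohCat.isQCoh X).ι ⋙ DerivedCategory.singleFunctor X.Modules 0 ⋙
      DCoh.LTensorCx F ⋙ DerivedCategory.homologyFunctor X.Modules p) ∧
    PreservesFiniteColimits ((QCohCat.isQCoh X).ι ⋙ DerivedCategory.singleFunctor X.Modules 0 ⋙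
      DCoh.LTensorCx F ⋙ DerivedCategory.homologyFunctor X.Modules p) :=
  exact_ltensor F p (preserves _ p hE hc)

end K242.ExactQ
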