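import Groth.Agent.Dcoh.TensSingle
import Mathlib.Algebra.Homology.ShortComplex.ExactFunctor
import Mathlib.Algebra.Homology.HomologySequence
import Mathlib.Algebra.Homology.SingleHomology
import Mathlib.CategoryTheory.Limits.Preserves.Shapes.Kernels

/-!
# The complex of functors `A ↦ F(A, K^•)` and the exactness of its cohomology

For a bifunctor `F : C₁ ⥤ C₂ ⥤ D` additive in each variable and a cochain complex `K` in `C₂`:
* `termwise F K : C₁ ⥤ CochainComplex D ℤ`, `A ↦ F(A, K^•)`;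
* `termwiseIso F K : termwise F K ≅ single 0 ⋙ F.map₂CochainComplex.flip.obj K`;
* `mono_homologyMap_iff`: `H^p(F(A, K)) → H^p(F(A', K))` is a monomorphism iff `F(A, coker d^{p-1}) → F(A', coker d^{p-1})`
  is one, when `F(A, -)`, `F(A', -)` are right exact and `F(A, K^{p+1}) → F(A', K^{p+1})` is a monomorphism.
* `mono_homologyMap_of_d_eq_zero`, `epi_homologyMap_of_d_eq_zero`: the case of vanishing differentials.
-/

set_option autoImplicit false
set_option linter.unusedSectionVars false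

universe v₁ v₂ v₃ u₁ u₂ u₃

open CategoryTheory Category Limits HomologicalComplex

namespace K242.Termwise

section Cx

variable {D : Type u₃} [Category.{v₃} D] [Abelian D]

/-- If the differentials around `p` vanish, `homologyMap f p` is `f.f p` up to isomorphism. -/
lemma homology_arrow {K L : CochainComplex D ℤ} (f : K ⟶ L) (p : ℤ)
    (h₁ : K.d (p - 1) p = 0) (h₂ : K.d p (p + 1) = 0) (h₃ : L.d (p - 1) p = 0) (h₄ : L.d p (p + 1) = 0) :
    Nonempty (Arrow.mk (homologyMap f p) ≅ Arrow.mk (f.f p)) := by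
  have e1 : (ComplexShape.up ℤ).prev p = p - 1 := by simp
  have e2 : (ComplexShape.up ℤ).next p = p + 1 := by simp
  have i1 : IsIso (K.homologyπ p) := K.isIso_homologyπ (p - 1) p e1 h₁
  have i2 : IsIso (L.homologyπ p) := L.isIso_homologyπ (p - 1) p e1 h₃
  have i3 : IsIso (K.iCycles p) := K.isIso_iCycles p (p + 1) e2 h₂
  have i4 : IsIso (L.iCycles p) := L.isIso_iCycles p (p + 1) e2 h₄
  refine ⟨Arrow.isoMk ((asIso (K.homologyπ p)).symm ≪≫ asIso (K.iCycles p))
    ((asIso (L.homologyπ p)).symm ≪≫ asIso (L.iCycles p)) ?_⟩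
  dsimp
  rw [← cancel_epi (K.homologyπ p), assoc, IsIso.hom_inv_id_assoc, homologyπ_naturality_assoc,
    IsIso.hom_inv_id_assoc, cyclesMap_i]

lemma mono_homologyMap_of_d_eq_zero {K L : CochainComplex D ℤ} (f : K ⟶ L) (p : ℤ)
    (h₁ : K.d (p - 1) p = 0) (h₂ : K.d p (p + 1) = 0) (h₃ : L.d (p - 1) p = 0) (h₄ : L.d p (p + 1) = 0)
    (h : Mono (f.f p)) : Mono (homologyMap f p) := by
  obtain ⟨e⟩ := homology_arrow f p h₁ h₂ h₃ h₄
  exact ((MorphismProperty.monomorphisms D).arrow_mk_iso_iff e).2 h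

lemma epi_homologyMap_of_d_eq_zero {K L : CochainComplex D ℤ} (f : K ⟶ L) (p : ℤ)
    (h₁ : K.d (p - 1) p = 0) (h₂ : K.d p (p + 1) = 0) (h₃ : L.d (p - 1) p = 0) (h₄ : L.d p (p + 1) = 0)
    (h : Epi (f.f p)) : Epi (homologyMap f p) := by
  obtain ⟨e⟩ := homology_arrow f p h₁ h₂ h₃ h₄
  exact ((MorphismProperty.epimorphisms D).arrow_mk_iso_iff e).2 h

lemma fromOpcycles_naturality {K L : CochainComplex D ℤ} (f : K ⟶ L) (p q : ℤ) :
    opcyclesMap f p ≫ L.fromOpcycles p q = K.fromOpcycles p q ≫ f.f q := by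
  rw [← cancel_epi (K.pOpcycles p)]
  simp

/-- `H^p(K) → H^p(L)` is mono iff `coker d_K^{p-1} → coker d_L^{p-1}` is, when `K^{p+1} → L^{p+1}` is mono. -/
lemma mono_homologyMap_iff_opcyclesMap {K L : CochainComplex D ℤ} (f : K ⟶ L) (p : ℤ)
    (h : Mono (f.f (p + 1))) : Mono (homologyMap f p) ↔ Mono (opcyclesMap f p) := by
  have e2 : (ComplexShape.up ℤ).next p = p + 1 := by simp
  constructor
  · intro h1
    rw [Preadditive.mono_iff_cancel_zero]
    intro Z z hz
    have h2 : z ≫ K.fromOpcycles p (p + 1) = 0 := by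
      rw [← cancel_mono (f.f (p + 1)), assoc, ← fromOpcycles_naturality f p, ← assoc, hz, zero_comp,
        zero_comp]
    obtain ⟨w, hw⟩ : ∃ w : Z ⟶ K.homology p, w ≫ K.homologyι p = z :=
      ⟨(K.homologyIsKernel p (p + 1) e2).lift (KernelFork.ofι z h2),
        (K.homologyIsKernel p (p + 1) e2).fac _ WalkingParallelPair.zero⟩
    have h3 : w ≫ homologyMap f p = 0 := by
      rw [← cancel_mono (L.homologyι p), assoc, homologyι_naturality, ← assoc, hw, hz, zero_comp]
    have h4 : w = 0 := by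
      rw [← cancel_mono (homologyMap f p), h3, zero_comp]
    rw [← hw, h4, zero_comp]
  · intro h1
    have : Mono (homologyMap f p ≫ L.homologyι p) := by
      rw [homologyι_naturality]
      exact mono_comp _ _
    exact mono_of_mono (homologyMap f p) (L.homologyι p)

end Cx

section Bif

variable {C₁ : Type u₁} {C₂ : Type u₂} {D : Type u₃} [Category.{v₁} C₁] [Category.{v₂} C₂] [Category.{v₃} D]
  [Preadditive C₁] [Preadditive C₂] [Preadditive D]
  (F : C₁ ⥤ C₂ ⥤ D) [F.Additive] [∀ (X₁ : C₁), (F.obj X₁).Additive]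

/-- `A ↦ F(A, K^•)`. -/
noncomputable def termwise (K : CochainComplex C₂ ℤ) : C₁ ⥤ CochainComplex D ℤ where
  obj A := ((F.obj A).mapHomologicalComplex (ComplexShape.up ℤ)).obj K
  map φ := (NatTrans.mapHomologicalComplex (F.map φ) (ComplexShape.up ℤ)).app K
  map_id A := by
    ext n
    simp
  map_comp φ ψ := by
    ext n
    simp

@[simp]
lemma termwise_obj_X (K : CochainComplex C₂ ℤ) (A : C₁) (n : ℤ) :
    ((termwise F K).obj A).X n = (F.obj A).obj (K.X n) := rfl

@[simp]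
lemma termwise_obj_d (K : CochainComplex C₂ ℤ) (A : C₁) (n m : ℤ) :
    ((termwise F K).obj A).d n m = (F.obj A).map (K.d n m) := rfl

@[simp]
lemma termwise_map_f (K : CochainComplex C₂ ℤ) {A A' : C₁} (φ : A ⟶ A') (n : ℤ) :
    ((termwise F K).map φ).f n = (F.map φ).app (K.X n) := rfl

section Single

variable [HasZeroObject C₁] [HasZeroObject C₂]
  [∀ (K₁ : CochainComplex C₁ ℤ) (K₂ : CochainComplex C₂ ℤ), CochainComplex.HasMapBifunctor K₁ K₂ F]

/-- `F(A, K^•)` is the total complex of `F(A[0], K)`, naturally in `A`. -/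
noncomputable def termwiseIso (K : CochainComplex C₂ ℤ) :
    termwise F K ≅ single C₁ (ComplexShape.up ℤ) 0 ⋙ F.map₂CochainComplex.flip.obj K :=
  NatIso.ofComponents (fun A => Groth.Agent.Dcoh.TensSingle.singleLeftIsoApp F A K) (by
    intro A A' φ
    ext n
    change (F.map φ).app (K.X n) ≫ Groth.Agent.Dcoh.TensSingle.leftHom F A' K n =
      Groth.Agent.Dcoh.TensSingle.leftHom F A K n ≫
        (mapBifunctorMap ((single C₁ (ComplexShape.up ℤ) 0).map φ) (𝟙 K) F (ComplexShape.up ℤ)).f n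
    dsimp only [Groth.Agent.Dcoh.TensSingle.leftHom]
    rw [assoc, ι_mapBifunctorMap, ← assoc, ← NatTrans.comp_app, ← F.map_comp]
    have h : φ ≫ (singleObjXSelf (ComplexShape.up ℤ) 0 A').inv =
        (singleObjXSelf (ComplexShape.up ℤ) 0 A).inv ≫ ((single C₁ (ComplexShape.up ℤ) 0).map φ).f 0 := by
      rw [single_map_f_self]
      simp
    rw [h]
    simp)

end Single

end Bif

section Coker

variable {C₁ : Type u₁} {C₂ : Type u₂} {D : Type u₃} [Category.{v₁} C₁] [Category.{v₂} C₂] [Category.{v₃} D]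
  [Abelian C₁] [Abelian C₂] [Abelian D]
  (F : C₁ ⥤ C₂ ⥤ D) [F.Additive] [∀ (X₁ : C₁), (F.obj X₁).Additive]
  (hF : ∀ (X₁ : C₁), PreservesFiniteColimits (F.obj X₁))

include hF in
/-- `coker F(A, d^{p-1}) = F(A, coker d^{p-1})`, naturally in `A`. -/
lemma opcycles_arrow (K : CochainComplex C₂ ℤ) (q p : ℤ) (hqp : q + 1 = p) {A A' : C₁} (φ : A ⟶ A') :
    Nonempty (Arrow.mk (opcyclesMap ((termwise F K).map φ) p) ≅
      Arrow.mk ((F.map φ).app (cokernel (K.d q p)))) := by
  have e1 : (ComplexShape.up ℤ).prev p = q := (ComplexShape.up ℤ).prev_eq' hqp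
  let e : ∀ B : C₁, ((termwise F K).obj B).opcycles p ≅ (F.obj B).obj (cokernel (K.d q p)) := fun B =>
    haveI := hF B
    IsColimit.coconePointUniqueUpToIso (((termwise F K).obj B).opcyclesIsCokernel q p e1)
      (isColimitOfHasCokernelOfPreservesColimit (F.obj B) (K.d q p))
  have he : ∀ B : C₁, ((termwise F K).obj B).pOpcycles p ≫ (e B).hom = (F.obj B).map (cokernel.π (K.d q p)) :=
    fun B =>
      haveI := hF B
      IsColimit.comp_coconePointUniqueUpToIso_hom (((termwise F K).obj B).opcyclesIsCokernel q p e1)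
        (isColimitOfHasCokernelOfPreservesColimit (F.obj B) (K.d q p)) WalkingParallelPair.one
  refine ⟨Arrow.isoMk (e A) (e A') ?_⟩
  dsimp
  rw [← cancel_epi (((termwise F K).obj A).pOpcycles p), ← assoc, he A, p_opcyclesMap_assoc, he A']
  exact ((F.map φ).naturality _)

include hF in
/-- `H^p(F(A, K)) → H^p(F(A', K))` is a monomorphism iff `F(A, coker d^{p-1}) → F(A', coker d^{p-1})` is. -/
theorem mono_homologyMap_iff (K : CochainComplex C₂ ℤ) (q p : ℤ) (hqp : q + 1 = p) {A A' : C₁} (φ : A ⟶ A')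
    (h : Mono ((F.map φ).app (K.X (p + 1)))) :
    Mono (homologyMap ((termwise F K).map φ) p) ↔ Mono ((F.map φ).app (cokernel (K.d q p))) := by
  obtain ⟨e⟩ := opcycles_arrow F hF K q p hqp φ
  rw [mono_homologyMap_iff_opcyclesMap _ _ h]
  exact (MorphismProperty.monomorphisms D).arrow_mk_iso_iff e

omit hF in
lemma dz (K : CochainComplex C₂ ℤ) (p q : ℤ) (h : K.d p q = 0) (A : C₁) :
    ((termwise F K).obj A).d p q = 0 := by
  rw [termwise_obj_d, h, Functor.map_zero]
  rfl

omit hF in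
lemma mono_homologyMap_termwise (K : CochainComplex C₂ ℤ) (p : ℤ) (h₁ : K.d (p - 1) p = 0)
    (h₂ : K.d p (p + 1) = 0) {A A' : C₁} (φ : A ⟶ A') (h : Mono ((F.map φ).app (K.X p))) :
    Mono (homologyMap ((termwise F K).map φ) p) :=
  mono_homologyMap_of_d_eq_zero _ p (dz F K _ _ h₁ A) (dz F K _ _ h₂ A) (dz F K _ _ h₁ A') (dz F K _ _ h₂ A') h

omit hF in
lemma epi_homologyMap_termwise (K : CochainComplex C₂ ℤ) (p : ℤ) (h₁ : K.d (p - 1) p = 0)
    (h₂ : K.d p (p + 1) = 0) {A A' : C₁} (φ : A ⟶ A') (h : Epi ((F.map φ).app (K.X p))) :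
    Epi (homologyMap ((termwise F K).map φ) p) :=
  epi_homologyMap_of_d_eq_zero _ p (dz F K _ _ h₁ A) (dz F K _ _ h₂ A) (dz F K _ _ h₁ A') (dz F K _ _ h₂ A') h

end Coker

end K242.Termwise
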