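import Groth.Agent.KSix.K242.ExactKit
import Groth.Agent.KSix.K242.Termwise
import Groth.Agent.PerfC.LpullTens
import Groth.Agent.PerfC.LTXRestr
import Groth.Agent.PerfC.LTBound
import Groth.Agent.Dcoh.MapDer
import Groth.Agent.Dcoh.BddCx
import Groth.Agent.Dcoh.LocalD

/-!
# The functors `M ↦ H^p(M ⊗ᴸ K)` on the category of all `O_X`-modules

* `TX K p : X.Modules ⥤ X.Modules`, `M ↦ H^p(K ⊗ᴸ M)`; `tIso F p : M ↦ H^p(M ⊗ᴸ F)` is `TX (Q F) p`;
* `tRestr j K p`: compatibility with restriction to opens;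
* `isIso_tMap`: a map `α : K ⟶ L` with cone in degrees `≤ p - 2` induces an isomorphism `TX K p ≅ TX L p`;
* `tTermwise M p`: for `M` K-flat, `TX (Q M) p` is `N ↦ H^p(N ⊗ M^•)`.
-/

set_option autoImplicit false

universe u

open CategoryTheory CategoryTheory.Limits AlgebraicGeometry
open Groth.Agent.PerfC.IsoLocus Groth.Agent.PerfC.DTens Groth.Agent.PerfC.LpullTens DerivedCategory
open Pretriangulated

attribute [local instance] HasDerivedCategory.standard

namespace K242.SchemeT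

variable {X : Scheme.{u}}

/-- `- ⊗ᴸ F ≅ F ⊗ᴸ -`. -/
noncomputable def ltIso (F : CochainComplex X.Modules ℤ) [DCoh.HasLTensorCx F] :
    DCoh.LTensorCx F ≅ (LTX X).obj (Q.obj F) :=
  (LTXcx F).symm ≪≫ (symmIso X).app (Q.obj F)

/-- `M ↦ H^p(K ⊗ᴸ M)`. -/
noncomputable abbrev TX (K : DCoh.D X) (p : ℤ) : X.Modules ⥤ X.Modules :=
  singleFunctor X.Modules 0 ⋙ (LTX X).obj K ⋙ homologyFunctor X.Modules p

/-- `M ↦ H^p(M ⊗ᴸ F)` is `TX (Q F) p`. -/
noncomputable def tIso (F : CochainComplex X.Modules ℤ) [DCoh.HasLTensorCx F] (p : ℤ) :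
    singleFunctor X.Modules 0 ⋙ DCoh.LTensorCx F ⋙ homologyFunctor X.Modules p ≅ TX (Q.obj F) p :=
  Functor.isoWhiskerLeft _ (Functor.isoWhiskerRight (ltIso F) _)

/-- Functoriality of `TX` in `K`. -/
noncomputable def tMap {K L : DCoh.D X} (α : K ⟶ L) (p : ℤ) : TX K p ⟶ TX L p :=
  Functor.whiskerLeft _ (Functor.whiskerRight ((LTX X).map α) _)

/-- `TX` of an isomorphism. -/
noncomputable def tMapIso {K L : DCoh.D X} (e : K ≅ L) (p : ℤ) : TX K p ≅ TX L p :=
  Functor.isoWhiskerLeft _ (Functor.isoWhiskerRight ((LTX X).mapIso e) _)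

section Restr

variable {U : Scheme.{u}} (j : U ⟶ X) [IsOpenImmersion j]

/-- `TX` commutes with restriction to opens. -/
noncomputable def tRestr (K : DCoh.D X) (p : ℤ) :
    TX K p ⋙ Scheme.Modules.restrictFunctor j ≅
      Scheme.Modules.restrictFunctor j ⋙ TX ((DCoh.restrictD j).obj K) p :=
  Functor.isoWhiskerLeft (singleFunctor X.Modules 0 ⋙ (LTX X).obj K)
      (Groth.Agent.Dcoh.MapDer.homologyMapDer (Scheme.Modules.restrictFunctor j) p).symm ≪≫
    Functor.isoWhiskerLeft (singleFunctor X.Modules 0)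
      (Functor.isoWhiskerRight (Groth.Agent.PerfC.LTXRestr.restrTensRight j K) (homologyFunctor U.Modules p)) ≪≫
    Functor.isoWhiskerRight ((Scheme.Modules.restrictFunctor j).mapDerivedCategorySingleFunctor 0)
      ((LTX U).obj ((DCoh.restrictD j).obj K) ⋙ homologyFunctor U.Modules p)

end Restr

section Approx

/-- A triangulated functor which preserves the bound of the cone preserves `m`-approximations. -/
theorem homology_map_of_isTriang {A B : Type*} [Category* A] [Abelian A] [Category* B] [Abelian B]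
    [HasDerivedCategory A] [HasDerivedCategory B] (Φ : DerivedCategory A ⥤ DerivedCategory B) (hΦ : IsTriang Φ)
    {K L : DerivedCategory A} (α : K ⟶ L) (m m' : ℤ)
    (h1 : ∀ i : ℤ, m < i → IsIso ((homologyFunctor _ i).map α)) (h2 : Epi ((homologyFunctor _ m).map α))
    (hb : ∀ C : DerivedCategory A, C.IsLE (m - 1) → (Φ.obj C).IsLE (m' - 1)) :
    (∀ i : ℤ, m' < i → IsIso ((homologyFunctor _ i).map (Φ.map α))) ∧
      Epi ((homologyFunctor _ m').map (Φ.map α)) := by
  obtain ⟨_, _⟩ := hΦ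
  obtain ⟨C, β, γ, hT⟩ := Pretriangulated.distinguished_cocone_triangle α
  have hC : C.IsLE (m - 1) := by
    rw [isLE_iff]
    intro i hi
    refine Groth.Agent.Dcoh.BddCx.isZero_homology_obj₃ _ hT i (i + 1) rfl ?_ ?_
    · by_cases h : i = m
      · subst h; exact h2
      · have := h1 i (by omega)
        exact (inferInstance : Epi ((homologyFunctor _ i).map α))
    · have := h1 (i + 1) (by omega)
      exact (inferInstance : Mono ((homologyFunctor _ (i + 1)).map α))
  have hLC := hb C hC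
  have hT' := Φ.map_distinguished _ hT
  have hz : ∀ i : ℤ, m' - 1 < i → IsZero ((homologyFunctor _ i).obj (Φ.obj C)) := fun i hi =>
    (isLE_iff _ _).mp hLC i hi
  have hepi : ∀ i : ℤ, m' - 1 < i → Epi ((homologyFunctor _ i).map (Φ.map α)) := fun i hi =>
    (HomologySequence.epi_homologyMap_mor₁_iff _ hT' i).2 ((hz i hi).eq_of_tgt _ _)
  have hmono : ∀ i : ℤ, m' < i → Mono ((homologyFunctor _ i).map (Φ.map α)) := fun i hi =>
    (HomologySequence.mono_homologyMap_mor₁_iff _ hT' (i - 1) i (by omega)).2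
      ((hz (i - 1) (by omega)).eq_of_src _ _)
  refine ⟨fun i hi => ?_, hepi m' (by omega)⟩
  have := hepi i (by omega)
  have := hmono i hi
  exact isIso_of_mono_of_epi _

/-- `K ⊗ᴸ L` is in degrees `≤ a + b` when `K` is in degrees `≤ a` and `L` in degrees `≤ b`. -/
theorem isLE_LTX (K L : DCoh.D X) (a b : ℤ) [K.IsLE a] [L.IsLE b] :
    (((LTX X).obj K).obj L).IsLE (a + b) := by
  obtain ⟨F, ⟨e⟩⟩ := Groth.Agent.PerfA.Restrict.exists_rep X L
  have h1 : (DCoh.toD X F).IsLE b :=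
    ⟨DerivedCategory.TStructure.t.isLE_of_iso e.symm b |>.le⟩
  have := hasLTensorCx F
  have h2 := Groth.Agent.PerfC.LTBound.isLE_LTensorCx (bifData X) F b K a
  exact ⟨DerivedCategory.TStructure.t.isLE_of_iso
    ((LTXcxObj K F).symm ≪≫ ((LTX X).obj K).mapIso e) (a + b) |>.le⟩

/-- `N ↦ H^p(K ⊗ᴸ N) → H^p(L ⊗ᴸ N)` is an isomorphism for `p > m`, if `α` is an isomorphism on `H^i`, `i > m`, and
an epimorphism on `H^m`. -/
theorem isIso_tMap {K L : DCoh.D X} (α : K ⟶ L) (m p : ℤ)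
    (h1 : ∀ i : ℤ, m < i → IsIso ((homologyFunctor _ i).map α)) (h2 : Epi ((homologyFunctor _ m).map α))
    (hp : m < p) : IsIso (tMap α p) := by
  rw [NatTrans.isIso_iff_isIso_app]
  intro N
  refine (homology_map_of_isTriang ((LTX X).flip.obj ((singleFunctor X.Modules 0).obj N))
    (isTriang_LTX_flip_obj _) α m m h1 h2 (fun C hC => ?_)).1 p hp
  have h3 : ((singleFunctor X.Modules 0).obj N).IsLE 0 := inferInstance
  have h4 := isLE_LTX C ((singleFunctor X.Modules 0).obj N) (m - 1) 0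
  rw [add_zero] at h4
  exact h4

end Approx

section Termwise

open K242.Termwise

/-- For `M` K-flat: `M ⊗ᴸ N[0]` is the complex `N ⊗ M^•`, naturally in `N`. -/
theorem nonempty_termwise (M : CochainComplex X.Modules ℤ) (hM : DCoh.IsKFlat M) :
    Nonempty (singleFunctor X.Modules 0 ⋙ (LTX X).obj (Q.obj M) ≅
      termwise (DCoh.tensorBi (X := X)) M ⋙ Q) := by
  have h1 : ∀ N : X.Modules, IsIso (κX ((HomologicalComplex.single X.Modules (ComplexShape.up ℤ) 0).obj N) M) :=
    fun N => isIso_κX' _ M hM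
  let e1 : singleFunctor X.Modules 0 ⋙ (LTX X).flip.obj (Q.obj M) ≅
      HomologicalComplex.single X.Modules (ComplexShape.up ℤ) 0 ⋙ DCoh.tensorCx.flip.obj M ⋙ Q :=
    NatIso.ofComponents (fun N => @asIso _ _ _ _ (κX _ M) (h1 N)) (fun φ => κX_nat₁ _ M)
  exact ⟨Functor.isoWhiskerLeft _ ((symmIso X).symm.app (Q.obj M)) ≪≫ e1 ≪≫
    Functor.isoWhiskerRight (termwiseIso (DCoh.tensorBi (X := X)) M).symm Q⟩

/-- For `M` K-flat: `TX (Q M) p` is `N ↦ H^p(N ⊗ M^•)`. -/
theorem nonempty_tTermwise (M : CochainComplex X.Modules ℤ) (hM : DCoh.IsKFlat M) (p : ℤ) :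
    Nonempty (TX (Q.obj M) p ≅ termwise (DCoh.tensorBi (X := X)) M ⋙
      HomologicalComplex.homologyFunctor X.Modules (ComplexShape.up ℤ) p) := by
  obtain ⟨e⟩ := nonempty_termwise M hM
  exact ⟨Functor.isoWhiskerRight e (homologyFunctor X.Modules p) ≪≫
    Functor.isoWhiskerLeft _ (homologyFunctorFactors X.Modules p)⟩

end Termwise

end K242.SchemeT
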