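import Groth.Agent.KSix.K242.TorIndSch
import Groth.Agent.KSix.K242.SchemeT
import Groth.Agent.PerfB.LpullKit
import Groth.Agent.Dcoh.DerPull2
import Groth.Agent.S6240

/-!
# Tor amplitude of external derived tensor products
-/

set_option autoImplicit false
universe u
open CategoryTheory CategoryTheory.Limits AlgebraicGeometry
attribute [local instance] HasDerivedCategory.standard

namespace K242.ExtProd

open Groth.Agent Groth.Agent.PerfC.DTens DerivedCategory K238.StalkD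

variable {X Y Z : Scheme.{u}}

lemma hasTorAmplitudeD_of_iso {f : X ⟶ Y} {a b : ℤ} {K L : DCoh.D X} (e : K ≅ L)
    (h : DerSch.HasTorAmplitudeD f a b K) : DerSch.HasTorAmplitudeD f a b L :=
  fun F ⟨i⟩ => h F ⟨i ≪≫ e.symm⟩

/-- S6240 for objects of the derived category. -/
theorem hasTorAmplitudeD_tensor_lpull (f : X ⟶ Y) (g : Y ⟶ Z) (h : X ⟶ Z) (w : f ≫ g = h) [DCoh.HasLpull f]
    {a b c d : ℤ} (K : DCoh.D X) (hK : DerSch.HasTorAmplitudeD f a b K) (L : DCoh.D Y)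
    (hL : DerSch.HasTorAmplitudeD g c d L) :
    DerSch.HasTorAmplitudeD h (a + c) (b + d) (((LTX X).obj K).obj ((DCoh.Lpull f).obj L)) := by
  obtain ⟨F, ⟨eF⟩⟩ := Groth.Agent.PerfA.Restrict.exists_rep X K
  obtain ⟨G, ⟨eG⟩⟩ := Groth.Agent.PerfA.Restrict.exists_rep Y L
  have i1 := hasLTensorCx F
  have h1 := Groth.Agent.S6240.result f g h w F a b (hK F ⟨eF⟩) G c d (hL G ⟨eG⟩)
  refine hasTorAmplitudeD_of_iso ?_ h1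
  exact (K242.SchemeT.ltIso F).app _ ≪≫ ((LTX X).mapIso eF).app _ ≪≫
    ((LTX X).obj K).mapIso ((DCoh.Lpull f).mapIso eG)

section

variable {S X₁ Y₁ X₂ Y₂ : Scheme.{u}} {f₁ : X₁ ⟶ Y₁} {q₁ : Y₁ ⟶ S}
    {f₂ : X₂ ⟶ Y₂} {q₂ : Y₂ ⟶ S} {pX₁ : X ⟶ X₁} {pX₂ : X ⟶ X₂} {pY₁ : Y ⟶ Y₁} {pY₂ : Y ⟶ Y₂} {f : X ⟶ Y}

theorem hasTorAmplitudeD_ext [Flat q₂] [Flat (f₂ ≫ q₂)]
    (hX : IsPullback pX₁ pX₂ (f₁ ≫ q₁) (f₂ ≫ q₂)) (hY : IsPullback pY₁ pY₂ q₁ q₂)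
    (hf₁ : f ≫ pY₁ = pX₁ ≫ f₁) (hf₂ : f ≫ pY₂ = pX₂ ≫ f₂) [DCoh.HasLpull pX₁] [DCoh.HasLpull pX₂]
    {a₁ b₁ a₂ b₂ : ℤ} (K₁ : DCoh.D X₁) (h₁ : DerSch.HasTorAmplitudeD f₁ a₁ b₁ K₁) (K₂ : DCoh.D X₂)
    (h₂ : DerSch.HasTorAmplitudeD f₂ a₂ b₂ K₂) :
    DerSch.HasTorAmplitudeD f (a₁ + a₂) (b₁ + b₂)
      (((LTX X).obj ((DCoh.Lpull pX₁).obj K₁)).obj ((DCoh.Lpull pX₂).obj K₂)) := by
  let pr : pullback f₂ pY₂ ⟶ X₂ := pullback.fst f₂ pY₂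
  let h : pullback f₂ pY₂ ⟶ Y := pullback.snd f₂ pY₂
  have HZ : IsPullback pr h f₂ pY₂ := IsPullback.of_hasPullback _ _
  let g : X ⟶ pullback f₂ pY₂ := pullback.lift pX₂ f hf₂.symm
  have hg1 : g ≫ pr = pX₂ := pullback.lift_fst _ _ _
  have hg2 : g ≫ h = f := pullback.lift_snd _ _ _
  have H1 : IsPullback pr (h ≫ pY₁) (f₂ ≫ q₂) q₁ := HZ.paste_vert hY.flip
  have s0 : IsPullback pX₁ (g ≫ pr) (f₁ ≫ q₁) (f₂ ≫ q₂) := by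
    rw [hg1]
    exact hX
  have w0 : pX₁ ≫ f₁ = g ≫ h ≫ pY₁ := by rw [reassoc_of% hg2, hf₁]
  have H2 : IsPullback pX₁ g f₁ (h ≫ pY₁) := IsPullback.of_bot s0 w0 H1.flip
  have hfl : Flat (h ≫ pY₁) := MorphismProperty.of_isPullback H1 ‹_›
  have i1 : DCoh.HasLpull pr := Groth.Agent.PerfB.LpullKit.hasLpull _
  have i2 : DCoh.HasLpull g := Groth.Agent.PerfB.LpullKit.hasLpull _
  have i3 : DCoh.HasLpull (g ≫ pr) := Groth.Agent.PerfB.LpullKit.hasLpull _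
  have a1 := K238.AmpBC.hasTorAmplitudeD_flatBC H2 K₁ h₁
  have a2 := K242.TorIndSch.hasTorAmplitudeD_indepBC hY HZ K₂ h₂
  have a3 := hasTorAmplitudeD_tensor_lpull g h f hg2 _ a1 _ a2
  refine hasTorAmplitudeD_of_iso (((LTX X).obj ((DCoh.Lpull pX₁).obj K₁)).mapIso ?_) a3
  exact (Groth.Agent.PerfB.LpullKit.lpullComp g pr K₂).symm ≪≫ (Groth.Agent.Dcoh.DerPull.lpullCongr hg1).app K₂

end

end K242.ExtProd
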