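import Groth.Agent.KSix.K242.ExtProd
import Groth.Agent.KSix.K242.Devissage
import Groth.Agent.KSix.K242.QCohKit
import Groth.Agent.PerfC.LpullFlat
import Groth.Agent.KSix.K241.TenPull

/-!
# Bounds for external derived tensor products
-/

set_option autoImplicit false
universe u
open CategoryTheory CategoryTheory.Limits AlgebraicGeometry
attribute [local instance] HasDerivedCategory.standard

namespace K242.ExtProd

open Groth.Agent Groth.Agent.PerfC.DTens DerivedCategory K238.StalkD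

variable {X Y Z : Scheme.{u}}

/-- Flat pullback is t-exact. -/
lemma isGE_isLE_lpull_of_flat (f : X ⟶ Y) [Flat f] [DCoh.HasLpull f] (a b : ℤ) (K : DCoh.D Y)
    [hGE : K.IsGE a] [hLE : K.IsLE b] :
    ((DCoh.Lpull f).obj K).IsGE a ∧ ((DCoh.Lpull f).obj K).IsLE b := by
  have hpf : PreservesFiniteLimits (Scheme.Modules.pullback f) := inferInstance
  have e : ∀ i : ℤ, (DerivedCategory.homologyFunctor _ i).obj ((DCoh.Lpull f).obj K) ≅
      (Scheme.Modules.pullback f).obj ((DerivedCategory.homologyFunctor _ i).obj K) := fun i =>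
    (DerivedCategory.homologyFunctor _ i).mapIso ((Groth.Agent.PerfC.LpullFlat.lpullIso f).app K) ≪≫
      (Groth.Agent.Dcoh.MapDer.homologyMapDer (Scheme.Modules.pullback f) i).app K
  constructor
  · rw [DerivedCategory.isGE_iff]
    intro i hi
    exact ((Scheme.Modules.pullback f).map_isZero (K.isZero_of_isGE a i hi)).of_iso (e i)
  · rw [DerivedCategory.isLE_iff]
    intro i hi
    exact ((Scheme.Modules.pullback f).map_isZero (K.isZero_of_isLE b i hi)).of_iso (e i)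

/-- `K ⊗ᴸ Lg^* L` has cohomology in `[m + a, n + b]` if `K` has tor amplitude in `[m, n]` relative to `g` and `L`
has cohomology in `[a, b]`. -/
theorem amp_tensor_lpull (g : X ⟶ Z) [DCoh.HasLpull g] {m n : ℤ} (K : DCoh.D X)
    (hK : DerSch.HasTorAmplitudeD g m n K) (a b : ℤ) (L : DCoh.D Z) [L.IsGE a] [L.IsLE b] :
    (((LTX X).obj K).obj ((DCoh.Lpull g).obj L)).IsGE (a + m) ∧
      (((LTX X).obj K).obj ((DCoh.Lpull g).obj L)).IsLE (b + n) := by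
  have hT : Groth.Agent.PerfC.IsoLocus.IsTriang (DCoh.Lpull g ⋙ (LTX X).obj K) :=
    (K242.QCohKit.isTriang_Lpull g).comp (isTriang_LTX_obj K)
  refine K242.Devissage.amp_of_bounded (DCoh.Lpull g ⋙ (LTX X).obj K) hT m n (fun N => ?_) a b L
  obtain ⟨F, ⟨e⟩⟩ := Groth.Agent.PerfA.Restrict.exists_rep X K
  have i1 := hasLTensorCx F
  have hF : ∀ x : X, DRing.HasTorAmplitudeIn (Z.presheaf.stalk (g.base x)) m n
      ((stalkOverD g x).obj (DCoh.toD X F)) := (hasTorAmplitudeD_iff g m n _).1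
        (hasTorAmplitudeD_of_iso e.symm hK)
  have h1 := K241.TenPull.isZero_HD_ltensor_lpull g F hF N
  have e1 : ((LTX X).obj K).obj ((DCoh.Lpull g).obj (DCoh.inD Z N)) ≅
      (DCoh.LTensorCx F).obj ((DCoh.Lpull g).obj (DCoh.inD Z N)) :=
    ((LTX X).mapIso e.symm).app _ ≪≫ (K242.SchemeT.ltIso F).symm.app _
  constructor
  · rw [DerivedCategory.isGE_iff]
    intro i hi
    exact (h1 i (Or.inl hi)).of_iso ((DerivedCategory.homologyFunctor _ i).mapIso e1)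
  · rw [DerivedCategory.isLE_iff]
    intro i hi
    exact (h1 i (Or.inr hi)).of_iso ((DerivedCategory.homologyFunctor _ i).mapIso e1)

section

variable {S X₁ Y₁ X₂ Y₂ : Scheme.{u}} {f₁ : X₁ ⟶ Y₁} {q₁ : Y₁ ⟶ S}
    {r₂ : X₂ ⟶ S} {pX₁ : X ⟶ X₁} {pX₂ : X ⟶ X₂}

theorem amp_ext [Flat q₁] [Flat (f₁ ≫ q₁)] (hX : IsPullback pX₁ pX₂ (f₁ ≫ q₁) r₂)
    [DCoh.HasLpull pX₁] [DCoh.HasLpull pX₂]
    {a₁ b₁ : ℤ} (a₂ b₂ : ℤ) (K₁ : DCoh.D X₁) (h₁ : DerSch.HasTorAmplitudeD f₁ a₁ b₁ K₁) (K₂ : DCoh.D X₂)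
    [K₂.IsGE a₂] [K₂.IsLE b₂] :
    (((LTX X).obj ((DCoh.Lpull pX₁).obj K₁)).obj ((DCoh.Lpull pX₂).obj K₂)).IsGE (a₁ + a₂) ∧
      (((LTX X).obj ((DCoh.Lpull pX₁).obj K₁)).obj ((DCoh.Lpull pX₂).obj K₂)).IsLE (b₁ + b₂) := by
  let pa : pullback q₁ r₂ ⟶ Y₁ := pullback.fst q₁ r₂
  let pb : pullback q₁ r₂ ⟶ X₂ := pullback.snd q₁ r₂
  have HZ : IsPullback pa pb q₁ r₂ := IsPullback.of_hasPullback _ _
  have w1 : (pX₁ ≫ f₁) ≫ q₁ = pX₂ ≫ r₂ := by rw [Category.assoc]; exact hX.w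
  let g : X ⟶ pullback q₁ r₂ := pullback.lift (pX₁ ≫ f₁) pX₂ w1
  have hg1 : g ≫ pa = pX₁ ≫ f₁ := pullback.lift_fst _ _ _
  have hg2 : g ≫ pb = pX₂ := pullback.lift_snd _ _ _
  have s0 : IsPullback pX₁ (g ≫ pb) (f₁ ≫ q₁) r₂ := by
    rw [hg2]
    exact hX
  have H2 : IsPullback pX₁ g f₁ pa := IsPullback.of_bot s0 hg1.symm HZ
  have hfl : Flat pb := MorphismProperty.of_isPullback HZ ‹_›
  have i1 : DCoh.HasLpull pb := Groth.Agent.PerfB.LpullKit.hasLpull _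
  have i2 : DCoh.HasLpull g := Groth.Agent.PerfB.LpullKit.hasLpull _
  have i3 : DCoh.HasLpull (g ≫ pb) := Groth.Agent.PerfB.LpullKit.hasLpull _
  have a1 := K242.TorIndSch.hasTorAmplitudeD_indepBC HZ.flip H2 K₁ h₁
  obtain ⟨b1, b2⟩ := isGE_isLE_lpull_of_flat pb a₂ b₂ K₂
  obtain ⟨c1, c2⟩ := amp_tensor_lpull g _ a1 a₂ b₂ ((DCoh.Lpull pb).obj K₂)
  have e : ((LTX X).obj ((DCoh.Lpull pX₁).obj K₁)).obj ((DCoh.Lpull g).obj ((DCoh.Lpull pb).obj K₂)) ≅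
      ((LTX X).obj ((DCoh.Lpull pX₁).obj K₁)).obj ((DCoh.Lpull pX₂).obj K₂) :=
    ((LTX X).obj _).mapIso ((Groth.Agent.PerfB.LpullKit.lpullComp g pb K₂).symm ≪≫
      (Groth.Agent.Dcoh.DerPull.lpullCongr hg2).app K₂)
  rw [add_comm a₁, add_comm b₁]
  exact ⟨@Triangulated.TStructure.isGE_of_iso _ _ _ _ _ _ _ DerivedCategory.TStructure.t _ _ e (a₂ + a₁) c1,
    @Triangulated.TStructure.isLE_of_iso _ _ _ _ _ _ _ DerivedCategory.TStructure.t _ _ e (b₂ + b₁) c2⟩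

end

end K242.ExtProd
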