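import Groth.Agent.KSix.K242.SchemeT
import Groth.Agent.KSix.K242.DiffZero
import Groth.Agent.Dcoh.StalkT
import Groth.Agent.S0953
import Mathlib.CategoryTheory.MorphismProperty.Limits

/-!
# Local criterion for the exactness of `M ↦ H^p(K ⊗ᴸ M)` on a reduced scheme

If `K` is `(p-1)`-pseudo-coherent and `x ↦ dim H^p(K ⊗ᴸ κ(x))` is locally constant on the reduced scheme `X`,
then `M ↦ H^p(K ⊗ᴸ M)` preserves monomorphisms and epimorphisms of `O_X`-modules.
-/

set_option autoImplicit false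

universe u

open CategoryTheory CategoryTheory.Limits AlgebraicGeometry
open Groth.Agent.PerfC.IsoLocus DerivedCategory Groth.Agent.PerfB.MinModel Groth.Agent.PerfB.Betti
  Groth.Agent.Dcoh.LocalD K242.SchemeT K242.Termwise

attribute [local instance] HasDerivedCategory.standard

namespace K242.LocExact

variable {X : Scheme.{u}}

lemma mono_map_iff_of_iso {C D : Type*} [Category* C] [Category* D] {F G : C ⥤ D} (e : F ≅ G) {A B : C}
    (φ : A ⟶ B) : Mono (F.map φ) ↔ Mono (G.map φ) :=
  (MorphismProperty.monomorphisms D).arrow_mk_iso_iff (((Functor.mapArrowFunctor _ _).mapIso e).app (Arrow.mk φ))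

lemma epi_map_iff_of_iso {C D : Type*} [Category* C] [Category* D] {F G : C ⥤ D} (e : F ≅ G) {A B : C}
    (φ : A ⟶ B) : Epi (F.map φ) ↔ Epi (G.map φ) :=
  (MorphismProperty.epimorphisms D).arrow_mk_iso_iff (((Functor.mapArrowFunctor _ _).mapIso e).app (Arrow.mk φ))

/-- Being a monomorphism is local. -/
lemma mono_of_cover {M N : X.Modules} (φ : M ⟶ N)
    (h : ∀ x : X, ∃ (U : Scheme.{u}) (j : U ⟶ X) (_ : IsOpenImmersion j) (y : U), j y = x ∧
      Mono ((Scheme.Modules.restrictFunctor j).map φ)) : Mono φ := by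
  rw [Preadditive.mono_iff_isZero_kernel]
  apply Groth.Agent.PerfA.Restrict.isZero_of_restrict
  intro x
  obtain ⟨U, j, hj, y, hy, h1⟩ := h x
  exact ⟨U, j, hj, y, hy, (isZero_kernel_of_mono _).of_iso
    (PreservesKernel.iso (Scheme.Modules.restrictFunctor j) φ)⟩

/-- Being an epimorphism is local. -/
lemma epi_of_cover {M N : X.Modules} (φ : M ⟶ N)
    (h : ∀ x : X, ∃ (U : Scheme.{u}) (j : U ⟶ X) (_ : IsOpenImmersion j) (y : U), j y = x ∧
      Epi ((Scheme.Modules.restrictFunctor j).map φ)) : Epi φ := by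
  rw [Preadditive.epi_iff_isZero_cokernel]
  apply Groth.Agent.PerfA.Restrict.isZero_of_restrict
  intro x
  obtain ⟨U, j, hj, y, hy, h1⟩ := h x
  exact ⟨U, j, hj, y, hy, (isZero_cokernel_of_epi _).of_iso
    (PreservesCokernel.iso (Scheme.Modules.restrictFunctor j) φ)⟩

/-- `TX K p` preserves monomorphisms if it does so locally. -/
theorem preservesMono_of_cover (K : DCoh.D X) (p : ℤ)
    (h : ∀ x : X, ∃ (U : Scheme.{u}) (j : U ⟶ X) (_ : IsOpenImmersion j) (y : U), j y = x ∧
      (TX ((DCoh.restrictD j).obj K) p).PreservesMonomorphisms) : (TX K p).PreservesMonomorphisms where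
  preserves φ _ := by
    apply mono_of_cover
    intro x
    obtain ⟨U, j, hj, y, hy, h1⟩ := h x
    refine ⟨U, j, hj, y, hy, ?_⟩
    have h2 : Mono ((TX ((DCoh.restrictD j).obj K) p).map ((Scheme.Modules.restrictFunctor j).map φ)) :=
      inferInstance
    exact (mono_map_iff_of_iso (tRestr j K p) φ).2 h2

/-- `TX K p` preserves epimorphisms if it does so locally. -/
theorem preservesEpi_of_cover (K : DCoh.D X) (p : ℤ)
    (h : ∀ x : X, ∃ (U : Scheme.{u}) (j : U ⟶ X) (_ : IsOpenImmersion j) (y : U), j y = x ∧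
      (TX ((DCoh.restrictD j).obj K) p).PreservesEpimorphisms) : (TX K p).PreservesEpimorphisms where
  preserves φ _ := by
    apply epi_of_cover
    intro x
    obtain ⟨U, j, hj, y, hy, h1⟩ := h x
    refine ⟨U, j, hj, y, hy, ?_⟩
    have h2 : Epi ((TX ((DCoh.restrictD j).obj K) p).map ((Scheme.Modules.restrictFunctor j).map φ)) :=
      inferInstance
    exact (epi_map_iff_of_iso (tRestr j K p) φ).2 h2

section Model

variable {M : CochainComplex X.Modules ℤ} {n : ℤ → ℕ} (hM : TermsFree M n)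

include hM in
lemma isKFlat_of_termsFree {a b : ℤ} (hn : ∀ i, i < a ∨ b < i → n i = 0) : DCoh.IsKFlat M :=
  Groth.Agent.S0953.result M b
    ((CochainComplex.isStrictlyLE_iff _ _).2 fun i hi => isZero_of_termsFree hM hn i hi)
    (fun i => isFlat_of_termsFree hM i)

include hM in
/-- If the differentials of the model around `p` vanish, then `TX (Q M) p` preserves mono- and epimorphisms. -/
theorem preserves_of_d_eq_zero {a b : ℤ} (hn : ∀ i, i < a ∨ b < i → n i = 0) (p : ℤ)
    (h₁ : M.d (p - 1) p = 0) (h₂ : M.d p (p + 1) = 0) :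
    (TX (Q.obj M) p).PreservesMonomorphisms ∧ (TX (Q.obj M) p).PreservesEpimorphisms := by
  obtain ⟨e⟩ := nonempty_tTermwise M (isKFlat_of_termsFree hM hn) p
  have hf := isFlat_of_termsFree hM p
  have := Groth.Agent.Dcoh.Stalk.preservesFiniteLimits_tensorBi_flip_obj (M.X p) hf
  refine ⟨⟨fun {A B} φ _ => ?_⟩, ⟨fun {A B} φ _ => ?_⟩⟩
  · refine (mono_map_iff_of_iso e φ).2 ?_
    refine mono_homologyMap_termwise _ M p h₁ h₂ φ ?_
    exact (inferInstance : Mono ((DCoh.tensorBi.flip.obj (M.X p)).map φ))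
  · refine (epi_map_iff_of_iso e φ).2 ?_
    refine epi_homologyMap_termwise _ M p h₁ h₂ φ ?_
    exact (inferInstance : Epi ((DCoh.tensorBi.flip.obj (M.X p)).map φ))

end Model

lemma preservesMono_of_iso {C D : Type*} [Category* C] [Category* D] {F G : C ⥤ D} (e : F ≅ G)
    (h : F.PreservesMonomorphisms) : G.PreservesMonomorphisms where
  preserves φ _ := (mono_map_iff_of_iso e φ).1 inferInstance

lemma preservesEpi_of_iso {C D : Type*} [Category* C] [Category* D] {F G : C ⥤ D} (e : F ≅ G)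
    (h : F.PreservesEpimorphisms) : G.PreservesEpimorphisms where
  preserves φ _ := (epi_map_iff_of_iso e φ).1 inferInstance

/-- Near every point there is a model whose differentials around `p` vanish. -/
theorem exists_local [IsReduced X] [∀ x : X, DCoh.HasLpull (X.fromSpecResidueField x)] (E : DCoh.D X) (p : ℤ)
    (hE : DCoh.IsPseudoCoherentD (p - 1) E) (hc : IsLocallyConstant (fun x : X => PerfD.betti E x p)) (x : X) :
    ∃ (U : Scheme.{u}) (j : U ⟶ X) (_ : IsOpenImmersion j) (y : U), j y = x ∧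
      (TX ((DCoh.restrictD j).obj E) p).PreservesMonomorphisms ∧
      (TX ((DCoh.restrictD j).obj E) p).PreservesEpimorphisms := by
  obtain ⟨U, j, hj, u₀, hu₀, M, n, a, b, α, hM, hn, hmin, h1, h2⟩ := exists_model_pc (p - 1) E hE x
  obtain ⟨W, hW, hxW, hc'⟩ := (IsLocallyConstant.iff_exists_open _).1 hc x
  let U' : U.Opens := j ⁻¹ᵁ ⟨W, hW⟩
  have hu₀' : u₀ ∈ U' := by
    change j u₀ ∈ W
    rw [hu₀]; exact hxW
  let M' : CochainComplex (U' : Scheme.{u}).Modules ℤ :=
    ((Scheme.Modules.restrictFunctor U'.ι).mapHomologicalComplex (ComplexShape.up ℤ)).obj M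
  have hM' : TermsFree M' n := fun i =>
    ⟨(Scheme.Modules.restrictFunctor U'.ι).mapIso (hM i).some ≪≫ freeModRestrict U'.ι (n i)⟩
  let α' : Q.obj M' ⟶ (DCoh.restrictD (U'.ι ≫ j)).obj E :=
    (QRestrict U'.ι M).inv ≫ (DCoh.restrictD U'.ι).map α ≫ (restrictComp U'.ι j).hom.app E
  have h1' : ∀ i : ℤ, p - 1 < i → IsIso ((homologyFunctor _ i).map α') := fun i hi => by
    have := Groth.Agent.Dcoh.MapDer.isIso_homology_map (Scheme.Modules.restrictFunctor U'.ι) α i (h1 i hi)
    simp only [α', Functor.map_comp]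
    infer_instance
  have h2' : Epi ((homologyFunctor _ (p - 1)).map α') := by
    have := Groth.Agent.Dcoh.MapDer.epi_homology_map (Scheme.Modules.restrictFunctor U'.ι) α (p - 1) h2
    have h3 : Epi ((homologyFunctor (U' : Scheme.{u}).Modules (p - 1)).map ((DCoh.restrictD U'.ι).map α)) := this
    simp only [α', Functor.map_comp]
    infer_instance
  have hred : IsReduced (U' : Scheme.{u}) := isReduced_of_isOpenImmersion (U'.ι ≫ j)
  have hb : ∀ u : (U' : Scheme.{u}), PerfD.betti E ((U'.ι ≫ j) u) p = n p := by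
    intro u
    have e1 : PerfD.betti E ((U'.ι ≫ j) u) p = PerfD.betti E x p := hc' _ u.2
    rw [e1]
    exact betti_eq x j hM hn E (p - 1) α h1 h2 p (by omega) u₀ hu₀ hmin
  obtain ⟨d1, d2⟩ := K242.DiffZero.d_eq_zero_of_betti (U'.ι ≫ j) hM' hn E (p - 1) α' h1' h2' p (by omega) hb
  rw [sub_add_cancel] at d1
  obtain ⟨m1, m2⟩ := preserves_of_d_eq_zero hM' hn p d1 d2
  have := isIso_tMap α' (p - 1) p h1' h2' (by omega)
  refine ⟨U', U'.ι ≫ j, inferInstance, ⟨u₀, hu₀'⟩, ?_, preservesMono_of_iso (asIso (tMap α' p)) m1,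
    preservesEpi_of_iso (asIso (tMap α' p)) m2⟩
  rw [Scheme.Hom.comp_apply]
  exact hu₀

/-- `M ↦ H^p(E ⊗ᴸ M)` preserves monomorphisms and epimorphisms. -/
theorem preserves [IsReduced X] [∀ x : X, DCoh.HasLpull (X.fromSpecResidueField x)] (E : DCoh.D X) (p : ℤ)
    (hE : DCoh.IsPseudoCoherentD (p - 1) E) (hc : IsLocallyConstant (fun x : X => PerfD.betti E x p)) :
    (TX E p).PreservesMonomorphisms ∧ (TX E p).PreservesEpimorphisms := by
  constructor
  · apply preservesMono_of_cover
    intro x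
    obtain ⟨U, j, hj, y, hy, h1, h2⟩ := exists_local E p hE hc x
    exact ⟨U, j, hj, y, hy, h1⟩
  · apply preservesEpi_of_cover
    intro x
    obtain ⟨U, j, hj, y, hy, h1, h2⟩ := exists_local E p hE hc x
    exact ⟨U, j, hj, y, hy, h2⟩

end K242.LocExact
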