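import Groth.Agent.KSix.K242.SiteBif
import Groth.Agent.KSix.K242.Termwise
import Groth.Agent.KSix.K242.ExactKit

/-!
# The functors `M ↦ H^p(M ⊗ᴸ E)` on a ringed site for a bounded above complex `E` of flat modules
-/

set_option autoImplicit false

universe u

open CategoryTheory CategoryTheory.Limits

attribute [local instance] HasDerivedCategory.standard

namespace K242.SiteT

open ModSite K242.Termwise K242.SiteBif DerivedCategory Groth.Agent.PerfC.IsoLocus

variable {C : Type u} [SmallCategory C] {J : GrothendieckTopology C} {O : Sheaf J CommRingCat.{u}}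

/-- For `E` K-flat: `M[0] ⊗ᴸ E` is the complex `M ⊗ E^•`, naturally in `M`. -/
theorem nonempty_termwise (E : CochainComplex (Mod O) ℤ) (hE : IsKFlat E) [HasLTensorCx E] :
    Nonempty (singleFunctor (Mod O) 0 ⋙ LTensorCx E ≅ termwise (tensorBi O) E ⋙ Q) := by
  have h1 : ∀ N : Mod O, IsIso (κS ((HomologicalComplex.single (Mod O) (ComplexShape.up ℤ) 0).obj N) E) :=
    fun N => isIso_κS' _ E hE
  let e1 : singleFunctor (Mod O) 0 ⋙ (LTS O).flip.obj (Q.obj E) ≅
      HomologicalComplex.single (Mod O) (ComplexShape.up ℤ) 0 ⋙ (tensorCx O).flip.obj E ⋙ Q :=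
    NatIso.ofComponents (fun N => @asIso _ _ _ _ (κS _ E) (h1 N)) (fun φ => κS_nat₁ _ E)
  exact ⟨Functor.isoWhiskerLeft _ (LTScx E).symm ≪≫ e1 ≪≫
    Functor.isoWhiskerRight (termwiseIso (tensorBi O) E).symm Q⟩

/-- For `E` K-flat: `M ↦ H^p(M ⊗ᴸ E)` is `M ↦ H^p(M ⊗ E^•)`. -/
theorem nonempty_tTermwise (E : CochainComplex (Mod O) ℤ) (hE : IsKFlat E) [HasLTensorCx E] (p : ℤ) :
    Nonempty (singleFunctor (Mod O) 0 ⋙ LTensorCx E ⋙ homologyFunctor (Mod O) p ≅
      termwise (tensorBi O) E ⋙ HomologicalComplex.homologyFunctor (Mod O) (ComplexShape.up ℤ) p) := by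
  obtain ⟨e⟩ := nonempty_termwise E hE
  exact ⟨Functor.isoWhiskerRight e (homologyFunctor (Mod O) p) ≪≫
    Functor.isoWhiskerLeft _ (homologyFunctorFactors (Mod O) p)⟩

lemma mono_map_iff_of_iso {C D : Type*} [Category* C] [Category* D] {F G : C ⥤ D} (e : F ≅ G) {A B : C}
    (φ : A ⟶ B) : Mono (F.map φ) ↔ Mono (G.map φ) :=
  (MorphismProperty.monomorphisms D).arrow_mk_iso_iff (((Functor.mapArrowFunctor _ _).mapIso e).app (Arrow.mk φ))

/-- `M ↦ H^p(M ⊗ᴸ E)` preserves monomorphisms iff `coker d^{p-1}` is flat. -/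
theorem preservesMono_iff (E : CochainComplex (Mod O) ℤ) (hE : IsKFlat E) (hf : ∀ i : ℤ, IsFlat (E.X i))
    [HasLTensorCx E] (q p : ℤ) (hqp : q + 1 = p) :
    (singleFunctor (Mod O) 0 ⋙ LTensorCx E ⋙ homologyFunctor (Mod O) p).PreservesMonomorphisms ↔
      IsFlat (cokernel (E.d q p)) := by
  obtain ⟨e⟩ := nonempty_tTermwise E hE p
  rw [K294.Flat.isFlat_iff_flatR]
  have key : ∀ {M N : Mod O} (φ : M ⟶ N), Mono φ →
      (Mono ((singleFunctor (Mod O) 0 ⋙ LTensorCx E ⋙ homologyFunctor (Mod O) p).map φ) ↔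
        Mono (((tensorBi O).map φ).app (cokernel (E.d q p)))) := by
    intro M N φ hφ
    rw [mono_map_iff_of_iso e φ]
    exact mono_homologyMap_iff (tensorBi O) (fun M => inferInstance) E q p hqp φ
      ((K294.Flat.isFlat_iff_flatR _).1 (hf (p + 1)) φ hφ)
  constructor
  · intro h M N φ hφ
    exact (key φ hφ).1 inferInstance
  · intro h
    exact ⟨fun φ hφ => (key φ hφ).2 (h φ hφ)⟩

theorem rightExact_iff (E : CochainComplex (Mod O) ℤ) [HasLTensorCx E] (p : ℤ) :
    PreservesFiniteColimits (singleFunctor (Mod O) 0 ⋙ LTensorCx E ⋙ homologyFunctor (Mod O) p) ↔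
      PreservesFiniteLimits (singleFunctor (Mod O) 0 ⋙ LTensorCx E ⋙ homologyFunctor (Mod O) (p + 1)) :=
  K242.ExactKit.rightExact_iff_leftExact_succ (𝟭 (Mod O)) (LTensorCx E) (isTriang_LTensorCx E) p

theorem leftExact_iff_mono (E : CochainComplex (Mod O) ℤ) [HasLTensorCx E] (p : ℤ) :
    PreservesFiniteLimits (singleFunctor (Mod O) 0 ⋙ LTensorCx E ⋙ homologyFunctor (Mod O) p) ↔
      (singleFunctor (Mod O) 0 ⋙ LTensorCx E ⋙ homologyFunctor (Mod O) p).PreservesMonomorphisms :=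
  K242.ExactKit.preservesFiniteLimits_iff_mono (𝟭 (Mod O)) (LTensorCx E) (isTriang_LTensorCx E) p

end K242.SiteT
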