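import Groth.Agent.KSix.K238.RingBC

/-!
# Tor-independent base change of tor amplitude (ring level)

`R₀ → A₂ → B₂` with `A₂`, `B₂` flat over `R₀`, `A₁` an arbitrary `R₀`-algebra, `C = A₂ ⊗ A₁`, `D = B₂ ⊗ A₁`.  If `K ∈ D(B₂)`
has tor amplitude in `[a, b]` over `A₂` then `K ⊗ᴸ D` has tor amplitude in `[a, b]` over `C`; also after a further
"localisation" `C → OY`, `D ⊗ OY → OZ`.
-/

set_option autoImplicit false
universe u
open CategoryTheory CategoryTheory.Limits TensorProduct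
attribute [local instance] HasDerivedCategory.standard

namespace K242.TorInd

open DerivedCategory Groth.Agent Groth.Agent.LoccohB Groth.Agent.LoccohB.LBC Groth.Agent.LoccohB.BCUnit K238.StalkD
  K238.RingInD

section Abs

variable (R R' C C' B B' : Type u) [CommRing R] [CommRing R'] [CommRing C] [CommRing C'] [CommRing B]
  [CommRing B'] [Algebra R R'] [Algebra R C] [Algebra R C'] [Algebra R B] [Algebra R B']
  [Algebra R' C'] [Algebra R' B'] [Algebra C C'] [Algebra C B] [Algebra C B'] [Algebra C' B']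
  [Algebra B B'] [IsScalarTower R R' C'] [IsScalarTower R C C'] [IsScalarTower R R' B']
  [IsScalarTower R B B'] [IsScalarTower R C B] [IsScalarTower R' C' B'] [IsScalarTower C C' B']
  [IsScalarTower C B B'] [IsScalarTower R C' B']
  [Algebra.IsPushout R R' C C'] [Algebra.IsPushout R R' B B']

include R R' in
/-- Tor-independent base change of tor amplitude. -/
theorem torAmp_lbc_indep [Module.Flat R C] [Module.Flat R B]
    [DRing.HasLBaseChange (algebraMap B B')] (K : Dual.D B) {a b : ℤ}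
    (hK : DRing.HasTorAmplitudeIn C a b ((DRing.restrictD (algebraMap C B)).obj K)) :
    DRing.HasTorAmplitudeIn C' a b ((DRing.restrictD (algebraMap C' B')).obj
      ((DRing.LBaseChange (algebraMap B B')).obj K)) := by
  have i2 := hasLBaseChange (algebraMap C C')
  have i3 := BCMap.isIso_bcm R R' C C' B B'
  exact torAmp_of_iso ((asIso (BCMap.bcm C C' B B')).app K)
    (K227.FlatBC.torAmp_lbc (algebraMap C C') _ a b hK)

variable (OY OZ : Type u) [CommRing OY] [CommRing OZ] [Algebra C' OY] [Algebra OY OZ] [Algebra B' OZ]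
  [Algebra C' OZ] [IsScalarTower C' B' OZ] [IsScalarTower C' OY OZ]

include R R' C C' B' in
theorem torAmp_lbc_indep' [Module.Flat R C] [Module.Flat R B] [Module.Flat C' OY]
    (h : (Algebra.TensorProduct.productMap (IsScalarTower.toAlgHom C' B' OZ)
      (IsScalarTower.toAlgHom C' OY OZ)).toRingHom.Flat) (β : B →+* OZ)
    (hβ : β = (algebraMap B' OZ).comp (algebraMap B B'))
    [DRing.HasLBaseChange β] (K : Dual.D B) {a b : ℤ}
    (hK : DRing.HasTorAmplitudeIn C a b ((DRing.restrictD (algebraMap C B)).obj K)) :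
    DRing.HasTorAmplitudeIn OY a b ((DRing.restrictD (algebraMap OY OZ)).obj
      ((DRing.LBaseChange β).obj K)) := by
  have i1 := hasLBaseChange (algebraMap B B')
  have i2 := hasLBaseChange (algebraMap B' OZ)
  have hM := torAmp_lbc_indep R R' C C' B B' K hK
  have h2 := K238.RingBC.torAmp_cube C' B' OY OZ h _ hM
  exact torAmp_of_iso ((DRing.restrictD (algebraMap OY OZ)).mapIso
    ((lbcComp (algebraMap B B') (algebraMap B' OZ) β hβ).app K)) h2

end Abs

section Flat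

variable (R S A B T U : Type u) [CommRing R] [CommRing S] [CommRing A] [CommRing B] [CommRing T] [CommRing U]
  [Algebra R S] [Algebra R A] [Algebra R B] [Algebra R T] [Algebra R U] [Algebra S B] [Algebra A B]
  [Algebra A T] [Algebra S U] [Algebra A U] [Algebra B U] [Algebra T U]
  [IsScalarTower R S B] [IsScalarTower R A B] [IsScalarTower R A T] [IsScalarTower R S U] [IsScalarTower R T U]
  [IsScalarTower A B U] [IsScalarTower A T U] [IsScalarTower S B U]
  [Algebra.IsPushout R S A B]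

/-- `S ⊗_R T → U` flat implies `B ⊗_A T → U` flat, when `B = S ⊗_R A`. -/
theorem flat_of_cancel
    (h : (Algebra.TensorProduct.productMap (IsScalarTower.toAlgHom R S U)
      (IsScalarTower.toAlgHom R T U)).toRingHom.Flat) :
    (Algebra.TensorProduct.productMap (IsScalarTower.toAlgHom A B U)
      (IsScalarTower.toAlgHom A T U)).toRingHom.Flat := by
  let e := Algebra.IsPushout.cancelBaseChangeAlg R S A B T
  have h1 : (Algebra.TensorProduct.productMap (IsScalarTower.toAlgHom A B U)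
      (IsScalarTower.toAlgHom A T U)).toRingHom = ((Algebra.TensorProduct.productMap
        (IsScalarTower.toAlgHom R S U) (IsScalarTower.toAlgHom R T U)).toRingHom).comp
          (e : B ⊗[A] T →+* S ⊗[R] T) := by
    refine RingHom.ext fun x => ?_
    obtain ⟨y, rfl⟩ := e.symm.surjective x
    have h2 : ((e : B ⊗[A] T →+* S ⊗[R] T)) (e.symm y) = y := e.apply_symm_apply y
    rw [RingHom.comp_apply, h2]
    induction y using TensorProduct.induction_on with
    | zero => simp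
    | add a b ha hb =>
      rw [map_add, map_add, map_add, ha (e.apply_symm_apply a), hb (e.apply_symm_apply b)]
    | tmul s t =>
      rw [Algebra.IsPushout.cancelBaseChangeAlg_symm_tmul]
      change algebraMap B U (algebraMap S B s) * algebraMap T U t = algebraMap S U s * algebraMap T U t
      rw [← IsScalarTower.algebraMap_apply]
  rw [h1]
  exact (RingHom.Flat.of_bijective e.bijective).comp h

end Flat

section Concrete

variable (R₀ A₁ A₂ B₂ OY OZ : Type u) [CommRing R₀] [CommRing A₁] [CommRing A₂] [CommRing B₂] [CommRing OY]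
  [CommRing OZ] [Algebra R₀ A₁] [Algebra R₀ A₂] [Algebra R₀ B₂] [Algebra A₂ B₂] [IsScalarTower R₀ A₂ B₂]
  [Algebra R₀ OY] [Algebra A₁ OY] [Algebra A₂ OY] [IsScalarTower R₀ A₁ OY] [IsScalarTower R₀ A₂ OY]
  [Algebra OY OZ] [Algebra B₂ OZ] [Algebra A₂ OZ] [IsScalarTower A₂ B₂ OZ] [IsScalarTower A₂ OY OZ]

/-- **Tor-independent base change of tor amplitude, local form.** -/
theorem torAmp_cube3 [Module.Flat R₀ A₂] [Module.Flat R₀ B₂]
    (h1 : (Algebra.TensorProduct.productMap (IsScalarTower.toAlgHom R₀ A₂ OY)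
      (IsScalarTower.toAlgHom R₀ A₁ OY)).toRingHom.Flat)
    (h2 : (Algebra.TensorProduct.productMap (IsScalarTower.toAlgHom A₂ B₂ OZ)
      (IsScalarTower.toAlgHom A₂ OY OZ)).toRingHom.Flat)
    [DRing.HasLBaseChange (algebraMap B₂ OZ)] (K : Dual.D B₂) {a b : ℤ}
    (hK : DRing.HasTorAmplitudeIn A₂ a b ((DRing.restrictD (algebraMap A₂ B₂)).obj K)) :
    DRing.HasTorAmplitudeIn OY a b ((DRing.restrictD (algebraMap OY OZ)).obj
      ((DRing.LBaseChange (algebraMap B₂ OZ)).obj K)) := by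
  let _ : Algebra A₁ (A₂ ⊗[R₀] A₁) := Algebra.TensorProduct.rightAlgebra
  let _ : Algebra A₁ (B₂ ⊗[R₀] A₁) := Algebra.TensorProduct.rightAlgebra
  let ν : (A₂ ⊗[R₀] A₁) →+* (B₂ ⊗[R₀] A₁) :=
    (Algebra.TensorProduct.map (IsScalarTower.toAlgHom R₀ A₂ B₂) (AlgHom.id R₀ A₁)).toRingHom
  have hν : ∀ (x : A₂) (y : A₁), ν (x ⊗ₜ y) = algebraMap A₂ B₂ x ⊗ₜ y := fun x y => rfl
  let _ : Algebra (A₂ ⊗[R₀] A₁) (B₂ ⊗[R₀] A₁) := ν.toAlgebra
  let μ : (A₂ ⊗[R₀] A₁) →+* OY := (Algebra.TensorProduct.productMap (IsScalarTower.toAlgHom R₀ A₂ OY)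
      (IsScalarTower.toAlgHom R₀ A₁ OY)).toRingHom
  have hμ : ∀ (x : A₂) (y : A₁), μ (x ⊗ₜ y) = algebraMap A₂ OY x * algebraMap A₁ OY y := fun x y => rfl
  let _ : Algebra (A₂ ⊗[R₀] A₁) OY := μ.toAlgebra
  have f1 : Module.Flat (A₂ ⊗[R₀] A₁) OY := h1
  let _ : Algebra A₁ OZ := ((algebraMap OY OZ).comp (algebraMap A₁ OY)).toAlgebra
  let _ : Algebra R₀ OZ := ((algebraMap OY OZ).comp (algebraMap R₀ OY)).toAlgebra
  have t1 : IsScalarTower R₀ A₁ OZ := IsScalarTower.of_algebraMap_eq fun r => by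
    change algebraMap OY OZ (algebraMap R₀ OY r) = algebraMap OY OZ (algebraMap A₁ OY (algebraMap R₀ A₁ r))
    rw [← IsScalarTower.algebraMap_apply R₀ A₁ OY]
  have t2 : IsScalarTower R₀ B₂ OZ := IsScalarTower.of_algebraMap_eq fun r => by
    change algebraMap OY OZ (algebraMap R₀ OY r) = algebraMap B₂ OZ (algebraMap R₀ B₂ r)
    rw [IsScalarTower.algebraMap_apply R₀ A₂ B₂, ← IsScalarTower.algebraMap_apply A₂ B₂ OZ,
      IsScalarTower.algebraMap_apply R₀ A₂ OY, ← IsScalarTower.algebraMap_apply A₂ OY OZ]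
  let κ : (B₂ ⊗[R₀] A₁) →+* OZ := (Algebra.TensorProduct.productMap (IsScalarTower.toAlgHom R₀ B₂ OZ)
      (IsScalarTower.toAlgHom R₀ A₁ OZ)).toRingHom
  have hκ : ∀ (x : B₂) (y : A₁), κ (x ⊗ₜ y) = algebraMap B₂ OZ x * algebraMap OY OZ (algebraMap A₁ OY y) :=
    fun x y => rfl
  let _ : Algebra (B₂ ⊗[R₀] A₁) OZ := κ.toAlgebra
  let _ : Algebra (A₂ ⊗[R₀] A₁) OZ := ((algebraMap OY OZ).comp μ).toAlgebra
  have t3 : IsScalarTower A₁ (A₂ ⊗[R₀] A₁) (B₂ ⊗[R₀] A₁) := IsScalarTower.of_algebraMap_eq fun r => by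
    change (1 : B₂) ⊗ₜ[R₀] r = ν (1 ⊗ₜ r)
    rw [hν, map_one]
  have t4 : IsScalarTower A₂ (A₂ ⊗[R₀] A₁) (B₂ ⊗[R₀] A₁) := IsScalarTower.of_algebraMap_eq fun r => by
    change (algebraMap A₂ B₂ r) ⊗ₜ[R₀] (1 : A₁) = ν (r ⊗ₜ 1)
    rw [hν]
  have t5 : IsScalarTower R₀ (A₂ ⊗[R₀] A₁) (B₂ ⊗[R₀] A₁) := IsScalarTower.of_algebraMap_eq fun r => by
    change (algebraMap R₀ B₂ r) ⊗ₜ[R₀] (1 : A₁) = ν (algebraMap R₀ A₂ r ⊗ₜ 1)
    rw [hν, ← IsScalarTower.algebraMap_apply R₀ A₂ B₂]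
  have t6 : IsScalarTower (A₂ ⊗[R₀] A₁) OY OZ := IsScalarTower.of_algebraMap_eq fun r => rfl
  have t7 : IsScalarTower (A₂ ⊗[R₀] A₁) (B₂ ⊗[R₀] A₁) OZ := by
    refine IsScalarTower.of_algebraMap_eq fun r => ?_
    change algebraMap OY OZ (μ r) = κ (ν r)
    induction r using TensorProduct.induction_on with
    | zero => simp only [map_zero]
    | add a b ha hb => simp only [map_add, ha, hb]
    | tmul s t =>
      rw [hμ, hν, hκ, map_mul, ← IsScalarTower.algebraMap_apply A₂ OY OZ,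
        ← IsScalarTower.algebraMap_apply A₂ B₂ OZ]
  have t8 : IsScalarTower A₂ (A₂ ⊗[R₀] A₁) OY := IsScalarTower.of_algebraMap_eq fun r => by
    change algebraMap A₂ OY r = μ (r ⊗ₜ 1)
    rw [hμ, map_one, mul_one]
  have t9 : IsScalarTower A₂ (A₂ ⊗[R₀] A₁) OZ := IsScalarTower.of_algebraMap_eq fun r => by
    change algebraMap A₂ OZ r = algebraMap OY OZ (μ (r ⊗ₜ 1))
    rw [hμ, map_one, mul_one, ← IsScalarTower.algebraMap_apply A₂ OY OZ]
  have t10 : IsScalarTower B₂ (B₂ ⊗[R₀] A₁) OZ := IsScalarTower.of_algebraMap_eq fun r => by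
    change algebraMap B₂ OZ r = κ (r ⊗ₜ 1)
    rw [hκ, map_one, map_one, mul_one]
  have hp : Algebra.IsPushout A₂ (A₂ ⊗[R₀] A₁) B₂ (B₂ ⊗[R₀] A₁) :=
    BCMap.isPushout_square R₀ A₁ A₂ (A₂ ⊗[R₀] A₁) B₂ (B₂ ⊗[R₀] A₁)
  have hp' : Algebra.IsPushout A₂ B₂ (A₂ ⊗[R₀] A₁) (B₂ ⊗[R₀] A₁) := hp.symm
  have h := flat_of_cancel A₂ B₂ (A₂ ⊗[R₀] A₁) (B₂ ⊗[R₀] A₁) OY OZ h2
  exact torAmp_lbc_indep' R₀ A₁ A₂ (A₂ ⊗[R₀] A₁) B₂ (B₂ ⊗[R₀] A₁) OY OZ h (algebraMap B₂ OZ)
    (IsScalarTower.algebraMap_eq B₂ (B₂ ⊗[R₀] A₁) OZ) K hK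

end Concrete

end K242.TorInd
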