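import Groth.Agent.KSix.K242.TorInd
import Groth.Agent.KSix.K238.AmpBC

/-!
# Tor-independent base change of stalkwise tor amplitude

`X₂ → Y₂ → S`, `Y₁ → S` with `Y₂` and `X₂` flat over `S`, `Y = Y₁ ×_S Y₂`, `Z = X₂ ×_{Y₂} Y`: if `K ∈ D(X₂)` has tor
amplitude in `[a, b]` relative to `X₂ → Y₂` then its derived pullback to `Z` has tor amplitude in `[a, b]` relative to
`Z → Y`.
-/

set_option autoImplicit false
set_option linter.style.haveILetI false
universe u
open CategoryTheory CategoryTheory.Limits AlgebraicGeometry TensorProduct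
attribute [local instance] HasDerivedCategory.standard

namespace K242.TorIndSch

open Groth.Agent Groth.Agent.Dcoh.Stalk K238.StalkD DerivedCategory Groth.Agent.LoccohB.LBC
  Groth.Agent.Fdesc.Skyscraper Groth.Agent.Fdesc.PullbackStalk Groth.Agent.Fdesc.StalkExt Groth.Agent.Fdesc.FlatBC
  Groth.Agent.Fdesc.StalkCube

variable {S X₂ Y₂ Y₁ Z Y : Scheme.{u}} {f₂ : X₂ ⟶ Y₂} {q₂ : Y₂ ⟶ S} {q₁ : Y₁ ⟶ S} {pr : Z ⟶ X₂} {h : Z ⟶ Y}
  {pY₁ : Y ⟶ Y₁} {pY₂ : Y ⟶ Y₂}

theorem hasTorAmplitudeD_indepBC (hY : IsPullback pY₁ pY₂ q₁ q₂) (HZ : IsPullback pr h f₂ pY₂) [Flat q₂]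
    [Flat (f₂ ≫ q₂)] [DCoh.HasLpull pr] (K : DCoh.D X₂) {a b : ℤ}
    (hK : DerSch.HasTorAmplitudeD f₂ a b K) : DerSch.HasTorAmplitudeD h a b ((DCoh.Lpull pr).obj K) := by
  rw [hasTorAmplitudeD_iff] at hK ⊢
  intro z
  have w : pr ≫ (f₂ ≫ q₂) = (h ≫ pY₁) ≫ q₁ := by
    rw [Category.assoc, hY.w, ← Category.assoc, HZ.w, Category.assoc]
  letI := stalkAlg f₂ (pr.base z)
  letI : Algebra (Y₂.presheaf.stalk (f₂.base (pr.base z))) (Y.presheaf.stalk (h.base z)) :=
    (crossMap HZ.w z).hom.toAlgebra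
  letI := stalkAlg pr z
  letI := stalkAlg h z
  letI : Algebra (Y₂.presheaf.stalk (f₂.base (pr.base z))) (Z.presheaf.stalk z) :=
    (f₂.stalkMap (pr.base z) ≫ pr.stalkMap z).hom.toAlgebra
  haveI : IsScalarTower (Y₂.presheaf.stalk (f₂.base (pr.base z))) (X₂.presheaf.stalk (pr.base z))
    (Z.presheaf.stalk z) := IsScalarTower.of_algebraMap_eq fun _ => rfl
  haveI : IsScalarTower (Y₂.presheaf.stalk (f₂.base (pr.base z))) (Y.presheaf.stalk (h.base z))
    (Z.presheaf.stalk z) := IsScalarTower.of_algebraMap_eq fun r =>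
      (ConcreteCategory.congr_hom (crossMap_comp HZ.w z) r).symm
  letI := stalkAlg q₂ (f₂.base (pr.base z))
  letI := stalkAlg pY₁ (h.base z)
  let cm : S.presheaf.stalk (q₂.base (f₂.base (pr.base z))) ⟶ Y₁.presheaf.stalk (pY₁.base (h.base z)) :=
    crossMap w z
  letI : Algebra (S.presheaf.stalk (q₂.base (f₂.base (pr.base z))))
    (Y₁.presheaf.stalk (pY₁.base (h.base z))) := cm.hom.toAlgebra
  letI : Algebra (S.presheaf.stalk (q₂.base (f₂.base (pr.base z)))) (X₂.presheaf.stalk (pr.base z)) :=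
    (q₂.stalkMap (f₂.base (pr.base z)) ≫ f₂.stalkMap (pr.base z)).hom.toAlgebra
  letI : Algebra (S.presheaf.stalk (q₂.base (f₂.base (pr.base z)))) (Y.presheaf.stalk (h.base z)) :=
    (q₂.stalkMap (f₂.base (pr.base z)) ≫ crossMap HZ.w z).hom.toAlgebra
  haveI : IsScalarTower (S.presheaf.stalk (q₂.base (f₂.base (pr.base z))))
    (Y₂.presheaf.stalk (f₂.base (pr.base z))) (X₂.presheaf.stalk (pr.base z)) :=
      IsScalarTower.of_algebraMap_eq fun _ => rfl
  haveI : IsScalarTower (S.presheaf.stalk (q₂.base (f₂.base (pr.base z))))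
    (Y₂.presheaf.stalk (f₂.base (pr.base z))) (Y.presheaf.stalk (h.base z)) :=
      IsScalarTower.of_algebraMap_eq fun _ => rfl
  have hp : Spec.map (crossMap HZ.w z) ≫ Y₂.fromSpecStalk (f₂.base (pr.base z)) =
      Y.fromSpecStalk (h.base z) ≫ pY₂ := SpecMap_crossMap HZ.w z
  have hq : Spec.map (pY₁.stalkMap (h.base z)) ≫ Y₁.fromSpecStalk (pY₁.base (h.base z)) =
      Y.fromSpecStalk (h.base z) ≫ pY₁ := Scheme.SpecMap_stalkMap_fromSpecStalk pY₁
  have hf : Spec.map (q₂.stalkMap (f₂.base (pr.base z))) ≫ S.fromSpecStalk (q₂.base (f₂.base (pr.base z))) =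
      Y₂.fromSpecStalk (f₂.base (pr.base z)) ≫ q₂ := Scheme.SpecMap_stalkMap_fromSpecStalk q₂
  have hg : Spec.map cm ≫ S.fromSpecStalk (q₂.base (f₂.base (pr.base z))) =
      Y₁.fromSpecStalk (pY₁.base (h.base z)) ≫ q₁ := SpecMap_crossMap w z
  have hcomm : q₂.stalkMap (f₂.base (pr.base z)) ≫ crossMap HZ.w z = cm ≫ pY₁.stalkMap (h.base z) := by
    apply Spec.map_injective
    rw [← cancel_mono (S.fromSpecStalk (q₂.base (f₂.base (pr.base z)))), Spec.map_comp, Spec.map_comp,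
      Category.assoc, Category.assoc, hf, hg, reassoc_of% hp, reassoc_of% hq, hY.w]
  haveI : IsScalarTower (S.presheaf.stalk (q₂.base (f₂.base (pr.base z))))
    (Y₁.presheaf.stalk (pY₁.base (h.base z))) (Y.presheaf.stalk (h.base z)) :=
      IsScalarTower.of_algebraMap_eq fun r => ConcreteCategory.congr_hom hcomm r
  haveI hfl := Groth.Agent.Fdesc.FlatStalk.flat_fromSpecStalk Y (h.base z)
  have h1 := flat_productMap_of_cube hY.flip
    (R := S.presheaf.stalk (q₂.base (f₂.base (pr.base z)))) (S := Y₂.presheaf.stalk (f₂.base (pr.base z)))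
    (T := Y₁.presheaf.stalk (pY₁.base (h.base z))) (U := Y.presheaf.stalk (h.base z))
    (Y.fromSpecStalk (h.base z)) (Y₂.fromSpecStalk (f₂.base (pr.base z)))
    (Y₁.fromSpecStalk (pY₁.base (h.base z))) (S.fromSpecStalk (q₂.base (f₂.base (pr.base z))))
    hp hq hf hg
  have h2 := flat_productMap_stalk HZ z
  haveI fl1 : Module.Flat (S.presheaf.stalk (q₂.base (f₂.base (pr.base z))))
    (Y₂.presheaf.stalk (f₂.base (pr.base z))) := Flat.stalkMap q₂ (f₂.base (pr.base z))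
  haveI fl2 : Module.Flat (S.presheaf.stalk (q₂.base (f₂.base (pr.base z))))
      (X₂.presheaf.stalk (pr.base z)) := by
    have := Flat.stalkMap (f₂ ≫ q₂) (pr.base z)
    rw [Scheme.Hom.stalkMap_comp] at this
    exact this
  haveI := hasLBaseChange (pr.stalkMap z).hom
  obtain ⟨e⟩ := K238.StalkPull.nonempty_stalkD_lpull pr z K
  haveI : DRing.HasLBaseChange (algebraMap (X₂.presheaf.stalk (pr.base z)) (Z.presheaf.stalk z)) :=
    hasLBaseChange (pr.stalkMap z).hom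
  have h3 := K242.TorInd.torAmp_cube3 (S.presheaf.stalk (q₂.base (f₂.base (pr.base z))))
    (Y₁.presheaf.stalk (pY₁.base (h.base z))) (Y₂.presheaf.stalk (f₂.base (pr.base z)))
    (X₂.presheaf.stalk (pr.base z)) (Y.presheaf.stalk (h.base z)) (Z.presheaf.stalk z) h1 h2
    ((stalkD (pr.base z)).obj K) (hK (pr.base z))
  exact torAmp_of_iso ((DRing.restrictD (h.stalkMap z).hom).mapIso e.symm) h3

end K242.TorIndSch
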